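import Mathlib.RingTheory.Flat.Basic
import Mathlib.RingTheory.Flat.Tensor
import Mathlib.LinearAlgebra.TensorProduct.RightExactness
import Mathlib.LinearAlgebra.TensorProduct.Tower
import Mathlib.RingTheory.TensorProduct.Basic
import Mathlib.Algebra.Module.Projective

/-!
# Injectivity after tensoring, relative to a surjection of rings
-/

universe u

open TensorProduct

namespace Groth.Agent.Glue24

variable {R : Type u} [CommRing R]

/-- Modules over `B` do not see more than `B ⊗ M`. -/
theorem rTensor_injective_of_flat_baseChange {B : Type u} [CommRing B] [Algebra R B]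
    {M : Type u} [AddCommGroup M] [Module R M] [Module.Flat B (B ⊗[R] M)]
    {U V : Type u} [AddCommGroup U] [Module R U] [Module B U] [IsScalarTower R B U]
    [AddCommGroup V] [Module R V] [Module B V] [IsScalarTower R B V]
    (g : U →ₗ[B] V) (hg : Function.Injective g) :
    Function.Injective ((g.restrictScalars R).rTensor M) := by
  let eU := AlgebraTensorModule.cancelBaseChange R B B U M
  let eV := AlgebraTensorModule.cancelBaseChange R B B V M
  have hinj := Module.Flat.rTensor_preserves_injective_linearMap (M := B ⊗[R] M) g hg
  have hcomm : ∀ z, (g.restrictScalars R).rTensor M (eU z) = eV (g.rTensor (B ⊗[R] M) z) := by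
    intro z
    induction z using TensorProduct.induction_on with
    | zero => simp
    | tmul u w =>
      induction w using TensorProduct.induction_on with
      | zero => simp
      | tmul b m => simp [eU, eV]
      | add a b ha hb => simp only [tmul_add, map_add, ha, hb]
    | add a b ha hb => simp only [map_add, ha, hb]
  intro x y hxy
  obtain ⟨x, rfl⟩ := eU.surjective x
  obtain ⟨y, rfl⟩ := eU.surjective y
  rw [hcomm, hcomm] at hxy
  rw [hinj (eV.injective hxy)]

theorem rTensor_injective_of_flat_coker_aux {K F L N G : Type u} [AddCommGroup K] [Module R K]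
    [AddCommGroup F] [Module R F] [AddCommGroup L] [Module R L] [AddCommGroup N] [Module R N]
    [AddCommGroup G] [Module R G] [Module.Flat R G]
    (i : K →ₗ[R] F) (p : F →ₗ[R] L) (hi : Function.Injective i) (hip : Function.Exact i p)
    (hp : Function.Surjective p) [Module.Flat R L] (π : G →ₗ[R] N) (hπ : Function.Surjective π) :
    Function.Injective (i.lTensor N) := by
  have hjπ : Function.Exact (LinearMap.ker π).subtype π := LinearMap.exact_subtype_ker_map π
  set j := (LinearMap.ker π).subtype with hj
  have sq : ∀ {X Y U V : Type u} [AddCommGroup X] [Module R X] [AddCommGroup Y] [Module R Y]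
      [AddCommGroup U] [Module R U] [AddCommGroup V] [Module R V] (a : X →ₗ[R] Y) (b : U →ₗ[R] V)
      (w : X ⊗[R] U), a.rTensor V (b.lTensor X w) = b.lTensor Y (a.rTensor U w) := by
    intros X Y U V _ _ _ _ _ _ _ _ a b w
    rw [← LinearMap.comp_apply, ← LinearMap.comp_apply, LinearMap.rTensor_comp_lTensor,
      LinearMap.lTensor_comp_rTensor]
  rw [← LinearMap.ker_eq_bot, LinearMap.ker_eq_bot']
  intro z hz
  obtain ⟨w, rfl⟩ := LinearMap.rTensor_surjective K hπ z
  rw [← sq] at hz
  obtain ⟨h, hh⟩ := (rTensor_exact F hjπ hπ _).mp hz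
  have h2 : j.rTensor L (p.lTensor _ h) = 0 := by
    rw [sq, hh, (lTensor_exact G hip hp).apply_apply_eq_zero]
  have h3 : p.lTensor _ h = 0 :=
    Module.Flat.rTensor_preserves_injective_linearMap (M := L) j Subtype.val_injective
      (by rw [h2, map_zero])
  obtain ⟨h', rfl⟩ := (lTensor_exact (LinearMap.ker π) hip hp _).mp h3
  have h4 : w = j.rTensor K h' := by
    apply Module.Flat.lTensor_preserves_injective_linearMap (M := G) i hi
    rw [← hh, sq]
  rw [h4, (rTensor_exact K hjπ hπ).apply_apply_eq_zero]

/-- Tensoring a short exact sequence with flat cokernel is left exact. -/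
theorem lTensor_injective_of_flat_coker {K F L N : Type u} [AddCommGroup K] [Module R K]
    [AddCommGroup F] [Module R F] [AddCommGroup L] [Module R L] [AddCommGroup N] [Module R N]
    (i : K →ₗ[R] F) (p : F →ₗ[R] L) (hi : Function.Injective i) (hip : Function.Exact i p)
    (hp : Function.Surjective p) [Module.Flat R L] :
    Function.Injective (i.lTensor N) :=
  rTensor_injective_of_flat_coker_aux (G := N →₀ R) i p hi hip hp
    (Finsupp.linearCombination R id) (fun n => ⟨Finsupp.single n 1, by simp⟩)

variable {B : Type u} [CommRing B] [Algebra R B]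

variable (B) in
/-- The multiplication map `J ⊗ F → F` for `J = ker (R → B)`. -/
noncomputable def kerMul (F : Type u) [AddCommGroup F] [Module R F] :
    RingHom.ker (algebraMap R B) ⊗[R] F →ₗ[R] F :=
  (TensorProduct.lid R F).toLinearMap ∘ₗ
    LinearMap.rTensor F (RingHom.ker (algebraMap R B)).subtype

@[simp] theorem kerMul_tmul (F : Type u) [AddCommGroup F] [Module R F]
    (j : RingHom.ker (algebraMap R B)) (x : F) : kerMul B F (j ⊗ₜ x) = (j : R) • x := by
  simp [kerMul]

theorem exact_kerMul_mk (hB : Function.Surjective (algebraMap R B))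
    (F : Type u) [AddCommGroup F] [Module R F] :
    Function.Exact (kerMul (R := R) B F) (TensorProduct.mk R B F 1) := by
  have h0 : Function.Exact (RingHom.ker (algebraMap R B)).subtype (Algebra.linearMap R B) := by
    intro r
    simp [RingHom.mem_ker]
  have h1 := rTensor_exact F h0 hB
  intro x
  have hx : (Algebra.linearMap R B).rTensor F ((TensorProduct.lid R F).symm x) =
      TensorProduct.mk R B F 1 x := by simp
  rw [← hx]
  refine (h1 _).trans ⟨?_, ?_⟩
  · rintro ⟨w, hw⟩
    exact ⟨w, by simp [kerMul, hw]⟩
  · rintro ⟨w, hw⟩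
    exact ⟨w, (TensorProduct.lid R F).injective (by simpa [kerMul] using hw)⟩

theorem rTensor_kerMul_injective {M : Type u} [AddCommGroup M] [Module R M]
    (hJ : Function.Injective ((RingHom.ker (algebraMap R B)).subtype.rTensor M))
    (F : Type u) [AddCommGroup F] [Module R F] [Module.Flat R F] :
    Function.Injective ((kerMul (R := R) B F).rTensor M) := by
  have key : (kerMul (R := R) B F).rTensor M = (TensorProduct.comm R M F).toLinearMap ∘ₗ
      (kerMul (R := R) B M).rTensor F ∘ₗ
      (TensorProduct.rightComm R (RingHom.ker (algebraMap R B)) F M).toLinearMap := by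
    ext j x m
    simp [TensorProduct.smul_tmul]
  have ht' : Function.Injective (kerMul (R := R) B M) := (TensorProduct.lid R M).injective.comp hJ
  rw [key]
  exact (TensorProduct.comm R M F).injective.comp
    ((Module.Flat.rTensor_preserves_injective_linearMap (M := F) _ ht').comp
      (TensorProduct.rightComm R (RingHom.ker (algebraMap R B)) F M).injective)

/-- The image of a submodule in the base change along a surjection. -/
noncomputable def imgBaseChange (hB : Function.Surjective (algebraMap R B))
    {F : Type u} [AddCommGroup F] [Module R F] (G : Submodule R F) : Submodule B (B ⊗[R] F) :=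
  { (G.map (TensorProduct.mk R B F 1)).toAddSubmonoid with
    smul_mem' := by
      intro b x hx
      obtain ⟨r, rfl⟩ := hB b
      rw [algebraMap_smul]
      exact (G.map (TensorProduct.mk R B F 1)).smul_mem r hx }

/-- The map from a submodule onto its image in the base change. -/
noncomputable def toImgBaseChange (hB : Function.Surjective (algebraMap R B))
    {F : Type u} [AddCommGroup F] [Module R F] (G : Submodule R F) :
    G →ₗ[R] imgBaseChange hB G :=
  ((TensorProduct.mk R B F 1).comp G.subtype).codRestrict
    ((imgBaseChange hB G).restrictScalars R) (fun x => ⟨x.1, x.2, rfl⟩)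

theorem subtype_comp_toImgBaseChange (hB : Function.Surjective (algebraMap R B))
    {F : Type u} [AddCommGroup F] [Module R F] (G : Submodule R F) :
    (imgBaseChange hB G).subtype.restrictScalars R ∘ₗ toImgBaseChange hB G =
      TensorProduct.mk R B F 1 ∘ₗ G.subtype := rfl

theorem toImgBaseChange_surjective (hB : Function.Surjective (algebraMap R B))
    {F : Type u} [AddCommGroup F] [Module R F] (G : Submodule R F) :
    Function.Surjective (toImgBaseChange hB G) := by
  rintro ⟨_, ⟨x, hx, rfl⟩⟩
  exact ⟨⟨x, hx⟩, rfl⟩

theorem injective_of_flat_target (hB : Function.Surjective (algebraMap R B))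
    {M : Type u} [AddCommGroup M] [Module R M]
    (hJ : Function.Injective ((RingHom.ker (algebraMap R B)).subtype.rTensor M))
    [Module.Flat B (B ⊗[R] M)] {F : Type u} [AddCommGroup F] [Module R F] [Module.Flat R F]
    (G : Submodule R F)
    (hG : ∀ j ∈ RingHom.ker (algebraMap R B), ∀ x : F, j • x ∈ G) :
    Function.Injective (G.subtype.rTensor M) := by
  have htG : ∀ w, kerMul (R := R) B F w ∈ G := by
    intro w
    induction w using TensorProduct.induction_on with
    | zero => simp
    | tmul j x => rw [kerMul_tmul]; exact hG j.1 j.2 x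
    | add a b ha hb => rw [map_add]; exact G.add_mem ha hb
  let u := (kerMul (R := R) B F).codRestrict G htG
  have hug : Function.Exact u (toImgBaseChange hB G) := by
    intro x
    constructor
    · intro hx
      have hx' : TensorProduct.mk R B F 1 x.1 = 0 :=
        (LinearMap.congr_fun (subtype_comp_toImgBaseChange hB G) x).symm.trans
          (by rw [LinearMap.comp_apply, hx, map_zero])
      obtain ⟨w, hw⟩ := (exact_kerMul_mk hB F x.1).mp hx'
      exact ⟨w, Subtype.ext hw⟩
    · rintro ⟨w, rfl⟩
      apply (imgBaseChange hB G).subtype_injective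
      rw [map_zero]
      exact (exact_kerMul_mk hB F).apply_apply_eq_zero w
  have hinj := rTensor_injective_of_flat_baseChange (R := R) (B := B) (M := M)
    (U := imgBaseChange hB G) (imgBaseChange hB G).subtype (Submodule.subtype_injective _)
  rw [← LinearMap.ker_eq_bot, LinearMap.ker_eq_bot']
  intro z hz
  have h1 : (toImgBaseChange hB G).rTensor M z = 0 := by
    apply hinj
    rw [map_zero, ← LinearMap.comp_apply, ← LinearMap.rTensor_comp]
    rw [subtype_comp_toImgBaseChange hB G, LinearMap.rTensor_comp, LinearMap.comp_apply, hz, map_zero]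
  have hex := rTensor_exact (N := G) (P := imgBaseChange hB G) (f := u) (g := toImgBaseChange hB G) M hug
    (toImgBaseChange_surjective hB G)
  obtain ⟨w, rfl⟩ := (hex z).mp h1
  have hu : (kerMul (R := R) B F).rTensor M w = 0 := by
    rw [← hz, ← LinearMap.comp_apply (LinearMap.rTensor M G.subtype), ← LinearMap.rTensor_comp,
      LinearMap.subtype_comp_codRestrict]
  have : w = 0 := rTensor_kerMul_injective hJ F (hu.trans (map_zero _).symm)
  rw [this, map_zero]

theorem rTensor_injective_of_ker_smul_mem_range_aux (hB : Function.Surjective (algebraMap R B))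
    {M : Type u} [AddCommGroup M] [Module R M]
    (hJ : Function.Injective ((RingHom.ker (algebraMap R B)).subtype.rTensor M))
    [Module.Flat B (B ⊗[R] M)]
    {P P' F : Type u} [AddCommGroup P] [Module R P] [AddCommGroup P'] [Module R P']
    [AddCommGroup F] [Module R F] [Module.Flat R F] (π : F →ₗ[R] P') (hπ : Function.Surjective π)
    (g : P →ₗ[R] P') (hg : Function.Injective g)
    (hcok : ∀ j ∈ RingHom.ker (algebraMap R B), ∀ x : P', j • x ∈ LinearMap.range g) :
    Function.Injective (g.rTensor M) := by
  let G := (LinearMap.range g).comap π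
  have hG := injective_of_flat_target hB hJ G (fun j hj x => by simpa [G] using hcok j hj (π x))
  let e := LinearEquiv.ofInjective g hg
  let π' : G →ₗ[R] P := e.symm.toLinearMap ∘ₗ
    (π ∘ₗ G.subtype).codRestrict (LinearMap.range g) (fun x => x.2)
  have hgπ : g ∘ₗ π' = π ∘ₗ G.subtype := by
    apply LinearMap.ext
    intro x
    exact congrArg Subtype.val (e.apply_symm_apply _)
  have hπ' : Function.Surjective π' := by
    intro y
    obtain ⟨x, hx⟩ := hπ (g y)
    refine ⟨⟨x, show π x ∈ LinearMap.range g from ⟨y, hx.symm⟩⟩, hg ?_⟩
    exact (LinearMap.congr_fun hgπ _).trans hx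
  let ι : LinearMap.ker π →ₗ[R] G :=
    Submodule.inclusion (fun x hx => show π x ∈ LinearMap.range g by
      rw [LinearMap.mem_ker.mp hx]; exact Submodule.zero_mem _)
  have hι : π' ∘ₗ ι = 0 := by
    apply LinearMap.ext
    intro x
    apply hg
    rw [LinearMap.zero_apply, map_zero]
    exact (LinearMap.congr_fun hgπ _).trans (LinearMap.mem_ker.mp x.2)
  rw [← LinearMap.ker_eq_bot, LinearMap.ker_eq_bot']
  intro y hy
  obtain ⟨z, rfl⟩ := LinearMap.rTensor_surjective M hπ' y
  have h1 : π.rTensor M (G.subtype.rTensor M z) = 0 := by
    rw [← LinearMap.comp_apply, ← LinearMap.rTensor_comp, ← hgπ, LinearMap.rTensor_comp]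
    exact hy
  obtain ⟨r, hr⟩ := (rTensor_exact M (LinearMap.exact_subtype_ker_map π) hπ _).mp h1
  have h2 : ι.rTensor M r = z := by
    apply hG
    rw [← hr, ← LinearMap.comp_apply, ← LinearMap.rTensor_comp]
    rfl
  rw [← h2, ← LinearMap.comp_apply, ← LinearMap.rTensor_comp, hι]
  simp

/-- If `R → B` is surjective with kernel `J`, `J ⊗ M → M` is injective and `B ⊗ M` is `B`-flat, then an
injection with cokernel killed by `J` stays injective after tensoring with `M`. -/
theorem rTensor_injective_of_ker_smul_mem_range (hB : Function.Surjective (algebraMap R B))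
    {M : Type u} [AddCommGroup M] [Module R M]
    (hJ : Function.Injective ((RingHom.ker (algebraMap R B)).subtype.rTensor M))
    [Module.Flat B (B ⊗[R] M)]
    {P P' : Type u} [AddCommGroup P] [Module R P] [AddCommGroup P'] [Module R P']
    (g : P →ₗ[R] P') (hg : Function.Injective g)
    (hcok : ∀ j ∈ RingHom.ker (algebraMap R B), ∀ x : P', j • x ∈ LinearMap.range g) :
    Function.Injective (g.rTensor M) :=
  rTensor_injective_of_ker_smul_mem_range_aux hB hJ (F := P' →₀ R)
    (Finsupp.linearCombination R id) (fun n => ⟨Finsupp.single n 1, by simp⟩) g hg hcok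

end Groth.Agent.Glue24
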