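import Groth.Prelude.Def_EtMil
import Groth.Agent.Glue24.SurjTor
import Mathlib.RingTheory.Finiteness.Basic
import Mathlib.Algebra.Module.FinitePresentation
import Mathlib.RingTheory.TensorProduct.Quotient
import Mathlib.RingTheory.Flat.Stability

/-!
# Modules over a fibre product of rings
-/

universe u

open TensorProduct

namespace Groth.Agent.Glue24.Milnor

variable {B' B A' A : Type u} [CommRing B'] [CommRing B] [CommRing A'] [CommRing A]
  [Algebra B' B] [Algebra B' A'] [Algebra B A] [Algebra A' A] [Algebra B' A]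
  [IsScalarTower B' B A] [IsScalarTower B' A' A]

theorem surjective_left (hsq : EtMil.IsFibreSquare B' B A' A) :
    Function.Surjective (algebraMap B' B) := by
  intro b
  obtain ⟨a', ha'⟩ := hsq.1 (algebraMap B A b)
  obtain ⟨b', ⟨h, -⟩, -⟩ := hsq.2 b a' ha'.symm
  exact ⟨b', h⟩

theorem ext_of_images (hsq : EtMil.IsFibreSquare B' B A' A) {x y : B'}
    (h1 : algebraMap B' B x = algebraMap B' B y) (h2 : algebraMap B' A' x = algebraMap B' A' y) :
    x = y := by
  obtain ⟨z, -, hz⟩ := hsq.2 (algebraMap B' B y) (algebraMap B' A' y)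
    (by rw [← IsScalarTower.algebraMap_apply, ← IsScalarTower.algebraMap_apply])
  exact (hz x ⟨h1, h2⟩).trans (hz y ⟨rfl, rfl⟩).symm

theorem algebraMap_mem_ker {j : B'} (hj : algebraMap B' B j = 0) :
    algebraMap B' A' j ∈ RingHom.ker (algebraMap A' A) := by
  rw [RingHom.mem_ker, ← IsScalarTower.algebraMap_apply, IsScalarTower.algebraMap_apply B' B A, hj,
    map_zero]

theorem exists_lift (hsq : EtMil.IsFibreSquare B' B A' A) {a : A'} (ha : algebraMap A' A a = 0) :
    ∃ j : B', algebraMap B' B j = 0 ∧ algebraMap B' A' j = a := by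
  obtain ⟨j, hj, -⟩ := hsq.2 0 a (by rw [map_zero, ha])
  exact ⟨j, hj⟩

variable (B A) in
/-- `J → I`. -/
noncomputable def kerMap : RingHom.ker (algebraMap B' B) →ₗ[B'] RingHom.ker (algebraMap A' A) where
  toFun j := ⟨algebraMap B' A' j.1, algebraMap_mem_ker (RingHom.mem_ker.mp j.2)⟩
  map_add' x y := Subtype.ext (map_add _ _ _)
  map_smul' c x := Subtype.ext (by simp [Algebra.smul_def, map_mul])

theorem kerMap_bijective (hsq : EtMil.IsFibreSquare B' B A' A) :
    Function.Bijective (kerMap (B' := B') (A' := A') B A) := by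
  constructor
  · intro x y h
    exact Subtype.ext (ext_of_images hsq
      ((RingHom.mem_ker.mp x.2).trans (RingHom.mem_ker.mp y.2).symm) (congrArg Subtype.val h))
  · intro i
    obtain ⟨j, h1, h2⟩ := exists_lift hsq (RingHom.mem_ker.mp i.2)
    exact ⟨⟨j, RingHom.mem_ker.mpr h1⟩, Subtype.ext h2⟩

/-- The action of `A'` on `J`, applied to a fixed element. -/
noncomputable def actKer (hsq : EtMil.IsFibreSquare B' B A' A)
    (j : RingHom.ker (algebraMap B' B)) : A' →ₗ[B'] RingHom.ker (algebraMap B' B) :=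
  (LinearEquiv.ofBijective (kerMap (B' := B') (A' := A') B A) (kerMap_bijective hsq)).symm.toLinearMap ∘ₗ
    (LinearMap.toSpanSingleton A' (RingHom.ker (algebraMap A' A)) (kerMap B A j)).restrictScalars B'

theorem actKer_one (hsq : EtMil.IsFibreSquare B' B A' A) (j : RingHom.ker (algebraMap B' B)) :
    actKer hsq j 1 = j := by
  simp [actKer, LinearEquiv.symm_apply_eq]

theorem algebraMap_actKer (hsq : EtMil.IsFibreSquare B' B A' A) (j : RingHom.ker (algebraMap B' B))
    (a : A') : algebraMap B' A' (actKer hsq j a : B') = a * algebraMap B' A' j.1 := by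
  have := (LinearEquiv.ofBijective (kerMap (B' := B') (A' := A') B A)
    (kerMap_bijective hsq)).apply_symm_apply
      ((LinearMap.toSpanSingleton A' (RingHom.ker (algebraMap A' A)) (kerMap B A j)) a)
  exact congrArg Subtype.val this

variable {L' : Type u} [AddCommGroup L'] [Module B' L']

theorem smul_eq_zero_of_tmul_eq_zero (hsq : EtMil.IsFibreSquare B' B A' A) {l : L'}
    (h : ((1 : A') ⊗ₜ[B'] l : A' ⊗[B'] L') = 0) {j : B'} (hj : algebraMap B' B j = 0) :
    j • l = 0 := by
  let f : A' →ₗ[B'] L' →ₗ[B'] L' :=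
    (LinearMap.lsmul B' L') ∘ₗ (RingHom.ker (algebraMap B' B)).subtype ∘ₗ
      actKer hsq ⟨j, RingHom.mem_ker.mpr hj⟩
  have := congrArg (TensorProduct.lift f) h
  simpa [f, actKer_one] using this

theorem kerMul_mem (w : RingHom.ker (algebraMap B' B) ⊗[B'] L') :
    kerMul (R := B') B L' w ∈ (RingHom.ker (algebraMap B' B)) • (⊤ : Submodule B' L') := by
  induction w using TensorProduct.induction_on with
  | zero => simp
  | tmul x y => rw [kerMul_tmul]; exact Submodule.smul_mem_smul x.2 trivial
  | add a b ha hb => rw [map_add]; exact Submodule.add_mem _ ha hb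

theorem mem_smul_top_of_tmul_eq_zero (hB : Function.Surjective (algebraMap B' B)) {l : L'}
    (h : ((1 : B) ⊗ₜ[B'] l : B ⊗[B'] L') = 0) :
    l ∈ (RingHom.ker (algebraMap B' B)) • (⊤ : Submodule B' L') := by
  obtain ⟨w, rfl⟩ := (exact_kerMul_mk hB L' l).mp h
  exact kerMul_mem w

theorem mul_eq_zero_of_tmul_eq_zero (hsq : EtMil.IsFibreSquare B' B A' A)
    {D' : Type u} [CommRing D'] [Algebra B' D'] {x y : D'}
    (hx : ((1 : B) ⊗ₜ[B'] x : B ⊗[B'] D') = 0) (hy : ((1 : A') ⊗ₜ[B'] y : A' ⊗[B'] D') = 0) :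
    x * y = 0 := by
  refine Submodule.smul_induction_on (mem_smul_top_of_tmul_eq_zero (surjective_left hsq) hx) ?_ ?_
  · intro j hj d _
    rw [smul_mul_assoc, ← mul_smul_comm,
      smul_eq_zero_of_tmul_eq_zero hsq hy (RingHom.mem_ker.mp hj), mul_zero]
  · intro a b ha hb
    rw [add_mul, ha, hb, add_zero]

theorem subsingleton_of_subsingleton (hsq : EtMil.IsFibreSquare B' B A' A)
    (h1 : Subsingleton (B ⊗[B'] L')) (h2 : Subsingleton (A' ⊗[B'] L')) : Subsingleton L' := by
  refine subsingleton_of_forall_eq 0 fun l => ?_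
  refine Submodule.smul_induction_on
    (mem_smul_top_of_tmul_eq_zero (surjective_left hsq) (l := l) (Subsingleton.elim _ _)) ?_ ?_
  · intro j hj d _
    exact smul_eq_zero_of_tmul_eq_zero hsq (Subsingleton.elim _ _) (RingHom.mem_ker.mp hj)
  · intro a b ha hb
    rw [ha, hb, add_zero]

theorem isPushout (hsq : EtMil.IsFibreSquare B' B A' A) : Algebra.IsPushout B' B A' A := by
  let m : B ⊗[B'] A' →ₐ[B] A := Algebra.TensorProduct.lift (Algebra.ofId B A)
    (IsScalarTower.toAlgHom B' A' A) (fun _ _ => Commute.all _ _)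
  have hsurj : Function.Surjective m := fun a => by
    obtain ⟨x, rfl⟩ := hsq.1 a
    exact ⟨1 ⊗ₜ x, by simp [m]⟩
  have hinj : Function.Injective m := by
    rw [injective_iff_map_eq_zero]
    intro z hz
    obtain ⟨a, rfl⟩ := TensorProduct.mk_surjective B' A' B (surjective_left hsq) z
    have ha : algebraMap A' A a = 0 := by simpa [m] using hz
    obtain ⟨j, hj, rfl⟩ := exists_lift hsq ha
    rw [TensorProduct.mk_apply, Algebra.algebraMap_eq_smul_one, ← smul_tmul, ← Algebra.algebraMap_eq_smul_one, hj, zero_tmul]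
  constructor
  exact IsBaseChange.of_equiv (LinearEquiv.ofBijective m.toLinearMap ⟨hinj, hsurj⟩)
    (fun x => (show m.toLinearMap (1 ⊗ₜ x) = algebraMap A' A x by simp [m]))

theorem ker_smul_rTensor_injective (hsq : EtMil.IsFibreSquare B' B A' A)
    [Module.Flat A' (A' ⊗[B'] L')] :
    Function.Injective ((RingHom.ker (algebraMap B' B)).subtype.rTensor L') := by
  let I := RingHom.ker (algebraMap A' A)
  let e := LinearEquiv.ofBijective (kerMap (B' := B') (A' := A') B A) (kerMap_bijective hsq)
  have h1 : Function.Injective ((I.subtype.restrictScalars B').rTensor L') :=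
    rTensor_injective_of_flat_baseChange I.subtype (Submodule.subtype_injective _)
  have h2 : (I.subtype.restrictScalars B').rTensor L' ∘ₗ e.toLinearMap.rTensor L' =
      (TensorProduct.mk B' A' L' 1) ∘ₗ (TensorProduct.lid B' L').toLinearMap ∘ₗ
        (RingHom.ker (algebraMap B' B)).subtype.rTensor L' := by
    ext j l
    simp [e, I, kerMap, Algebra.algebraMap_eq_smul_one, smul_tmul]
  have h3 : Function.Injective (e.rTensor L') := (e.rTensor L').injective
  intro x y hxy
  apply h3
  apply h1
  have hx := LinearMap.congr_fun h2 x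
  have hy := LinearMap.congr_fun h2 y
  simp only [LinearMap.comp_apply, LinearEquiv.coe_coe] at hx hy
  rw [hxy] at hx
  exact hx.trans hy.symm

theorem flat (hsq : EtMil.IsFibreSquare B' B A' A)
    [Module.Flat B (B ⊗[B'] L')] [Module.Flat A' (A' ⊗[B'] L')] : Module.Flat B' L' := by
  have hB := surjective_left hsq
  have hJ := ker_smul_rTensor_injective (L' := L') hsq
  let J := RingHom.ker (algebraMap B' B)
  rw [Module.Flat.iff_rTensor_injective']
  intro 𝔞
  let P0 : Submodule B' B' := 𝔞 ⊓ J
  -- saturation of `𝔞 ⊓ J` under the action of `A'`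
  let P1 : Submodule A' A' := Ideal.map (algebraMap B' A') P0
  let P : Submodule B' B' := (P1.restrictScalars B').comap (Algebra.linearMap B' A') ⊓ J
  have hPJ : P ≤ J := inf_le_right
  let Q : Submodule B' B' := 𝔞 ⊔ P
  have hJP : ∀ j ∈ J, ∀ x ∈ P, j * x ∈ 𝔞 := by
    intro j hj x hx
    have key : ∀ a ∈ P1, ∀ j' ∈ J, ∃ y ∈ 𝔞, y ∈ J ∧
        algebraMap B' A' y = algebraMap B' A' j' * a := by
      intro a ha
      refine Submodule.span_induction (p := fun a _ => ∀ j' ∈ J, ∃ y ∈ 𝔞, y ∈ J ∧
        algebraMap B' A' y = algebraMap B' A' j' * a) ?_ ?_ ?_ ?_ ha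
      · rintro _ ⟨p, hp, rfl⟩ j' hj'
        exact ⟨j' * p, 𝔞.mul_mem_left j' hp.1, J.mul_mem_right _ hj', map_mul _ _ _⟩
      · exact fun _ _ => ⟨0, 𝔞.zero_mem, J.zero_mem, by simp⟩
      · intro a b _ _ h1 h2 j' hj'
        obtain ⟨u, hu, hu', hu''⟩ := h1 j' hj'
        obtain ⟨v, hv, hv', hv''⟩ := h2 j' hj'
        exact ⟨u + v, 𝔞.add_mem hu hv, J.add_mem hu' hv', by rw [map_add, hu'', hv'', mul_add]⟩
      · intro c a _ h j' hj'
        obtain ⟨y, hy, hy', hy''⟩ := h _ (actKer hsq ⟨j', hj'⟩ c).2
        refine ⟨y, hy, hy', ?_⟩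
        rw [hy'', algebraMap_actKer, smul_eq_mul]
        ring
    obtain ⟨y, hy, hy', hy''⟩ := key (algebraMap B' A' x) hx.1 j hj
    have : j * x = y := ext_of_images hsq
      (by rw [map_mul, RingHom.mem_ker.mp hj, zero_mul, RingHom.mem_ker.mp hy'])
      (by rw [hy'', map_mul])
    rwa [this]
  -- `P ⊗ L' → L'` is injective
  have hP : Function.Injective (P.subtype.rTensor L') := by
    let η : P →ₗ[B'] P1 := (Algebra.linearMap B' A').restrict
      (p := P) (q := P1.restrictScalars B') (fun x hx => hx.1)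
    have hη : Function.Bijective η := by
      constructor
      · intro x y h
        exact Subtype.ext (ext_of_images hsq
          ((RingHom.mem_ker.mp x.2.2).trans (RingHom.mem_ker.mp y.2.2).symm)
          (congrArg Subtype.val h))
      · intro a
        have hle : P1 ≤ RingHom.ker (algebraMap A' A) :=
          Ideal.map_le_iff_le_comap.mpr fun p hp => algebraMap_mem_ker (RingHom.mem_ker.mp hp.2)
        obtain ⟨j, hj, hj'⟩ := exists_lift hsq (RingHom.mem_ker.mp (hle a.2))
        refine ⟨⟨j, ⟨?_, RingHom.mem_ker.mpr hj⟩⟩, Subtype.ext hj'⟩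
        show algebraMap B' A' j ∈ P1
        exact hj'.symm ▸ a.2
    have h1 : Function.Injective ((P1.subtype.restrictScalars B').rTensor L') :=
      rTensor_injective_of_flat_baseChange P1.subtype (Submodule.subtype_injective _)
    have h2 : (P1.subtype.restrictScalars B').rTensor L' ∘ₗ η.rTensor L' =
        (Algebra.linearMap B' A').rTensor L' ∘ₗ P.subtype.rTensor L' := by
      rw [← LinearMap.rTensor_comp, ← LinearMap.rTensor_comp]
      rfl
    have h3 : Function.Injective (η.rTensor L') :=
      ((LinearEquiv.ofBijective η hη).rTensor L').injective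
    intro x y hxy
    apply h3
    apply h1
    exact (LinearMap.congr_fun h2 x).trans
      ((congrArg _ hxy).trans (LinearMap.congr_fun h2 y).symm)
  -- `Q ⊗ L' → L'` is injective
  have hQ : Function.Injective (Q.subtype.rTensor L') := by
    let ι : P →ₗ[B'] Q := Submodule.inclusion le_sup_right
    let β : Q →ₗ[B'] B := (Algebra.linearMap B' B).comp Q.subtype
    let UB : Submodule B B := Ideal.map (algebraMap B' B) Q
    have hUB : ∀ x, β x ∈ UB.restrictScalars B' := fun x => Ideal.mem_map_of_mem _ x.2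
    let β' : Q →ₗ[B'] UB := β.codRestrict (UB.restrictScalars B') hUB
    have hβ' : Function.Surjective β' := by
      intro b
      obtain ⟨x, hx, hx'⟩ := (Ideal.mem_map_iff_of_surjective _ hB).mp b.2
      exact ⟨⟨x, hx⟩, Subtype.ext hx'⟩
    have hQJ : ∀ x ∈ Q, x ∈ J → x ∈ P := by
      intro x hx hxJ
      obtain ⟨a, ha, p, hp, rfl⟩ := Submodule.mem_sup.mp hx
      refine P.add_mem ?_ hp
      have haJ : a ∈ J := by simpa using J.sub_mem hxJ hp.2
      exact ⟨Ideal.mem_map_of_mem _ (show a ∈ P0 from ⟨ha, haJ⟩), haJ⟩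
    have hex : Function.Exact ι β' := by
      intro x
      constructor
      · intro hx
        have hx' : algebraMap B' B x.1 = 0 := congrArg Subtype.val hx
        exact ⟨⟨x.1, hQJ _ x.2 (RingHom.mem_ker.mpr hx')⟩, rfl⟩
      · rintro ⟨p, rfl⟩
        have hp : algebraMap B' B p.1 = 0 := RingHom.mem_ker.mp p.2.2
        exact Subtype.ext hp
    have h1 : Function.Injective ((UB.subtype.restrictScalars B').rTensor L') :=
      rTensor_injective_of_flat_baseChange UB.subtype (Submodule.subtype_injective _)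
    rw [← LinearMap.ker_eq_bot, LinearMap.ker_eq_bot']
    intro z hz
    have h2 : β'.rTensor L' z = 0 := by
      apply h1
      rw [map_zero, ← LinearMap.comp_apply, ← LinearMap.rTensor_comp]
      have : (UB.subtype.restrictScalars B') ∘ₗ β' = (Algebra.linearMap B' B).comp Q.subtype := rfl
      rw [this, LinearMap.rTensor_comp, LinearMap.comp_apply, hz, map_zero]
    obtain ⟨w, rfl⟩ := (rTensor_exact (N := Q) (P := UB) (f := ι) (g := β') L' hex hβ' z).mp h2
    rw [← LinearMap.comp_apply, ← LinearMap.rTensor_comp] at hz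
    have hw : w = 0 := hP (hz.trans (map_zero _).symm)
    rw [hw, map_zero]
  have hA : Function.Injective ((Submodule.inclusion (le_sup_left : 𝔞 ≤ Q)).rTensor L') := by
    refine rTensor_injective_of_ker_smul_mem_range hB hJ _ (Submodule.inclusion_injective _) ?_
    intro j hj x
    refine ⟨⟨j * x.1, ?_⟩, rfl⟩
    obtain ⟨a, ha, p, hp, hx⟩ := Submodule.mem_sup.mp x.2
    rw [← hx, mul_add]
    exact 𝔞.add_mem (𝔞.smul_mem j ha) (hJP j hj p hp)
  have : 𝔞.subtype = Q.subtype ∘ₗ Submodule.inclusion (le_sup_left : 𝔞 ≤ Q) := rfl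
  rw [this, LinearMap.rTensor_comp]
  exact hQ.comp hA

/-- Every finite set of tensors comes from a finitely generated submodule. -/
theorem exists_fg_span_eq_top {S : Type u} [CommRing S] [Algebra B' S]
    [Module.Finite S (S ⊗[B'] L')] : ∃ N : Submodule B' L', N.FG ∧
      Submodule.span S (TensorProduct.mk B' S L' 1 '' N) = ⊤ := by
  classical
  have key : ∀ z : S ⊗[B'] L', ∃ N : Submodule B' L', N.FG ∧
      z ∈ Submodule.span S (TensorProduct.mk B' S L' 1 '' N) := by
    intro z
    induction z using TensorProduct.induction_on with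
    | zero => exact ⟨⊥, Submodule.fg_bot, Submodule.zero_mem _⟩
    | tmul s l =>
      refine ⟨Submodule.span B' {l}, Submodule.fg_span_singleton l, ?_⟩
      have hsl : s • ((1 : S) ⊗ₜ[B'] l) = s ⊗ₜ[B'] l := by
        rw [smul_tmul', smul_eq_mul, mul_one]
      rw [← hsl]
      exact Submodule.smul_mem _ _
        (Submodule.subset_span ⟨l, Submodule.mem_span_singleton_self l, rfl⟩)
    | add x y hx hy =>
      obtain ⟨M, hM, hxM⟩ := hx
      obtain ⟨N, hN, hyN⟩ := hy
      exact ⟨M ⊔ N, hM.sup hN, Submodule.add_mem _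
        (Submodule.span_mono (Set.image_mono (le_sup_left : M ≤ M ⊔ N)) hxM)
        (Submodule.span_mono (Set.image_mono (le_sup_right : N ≤ M ⊔ N)) hyN)⟩
  obtain ⟨t, ht⟩ := Module.Finite.fg_top (R := S) (M := S ⊗[B'] L')
  suffices ∀ u : Finset (S ⊗[B'] L'), ∃ N : Submodule B' L', N.FG ∧
      ∀ z ∈ u, z ∈ Submodule.span S (TensorProduct.mk B' S L' 1 '' N) by
    obtain ⟨N, hN, hz⟩ := this t
    refine ⟨N, hN, le_antisymm le_top ?_⟩
    exact ht.ge.trans (Submodule.span_le.mpr hz)
  intro u
  induction u using Finset.induction_on with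
  | empty => exact ⟨⊥, Submodule.fg_bot, fun z hz => absurd hz (Finset.notMem_empty z)⟩
  | insert x u hx ih =>
    obtain ⟨M, hM, hxM⟩ := key x
    obtain ⟨N, hN, huN⟩ := ih
    refine ⟨M ⊔ N, hM.sup hN, fun z hz => ?_⟩
    rcases Finset.mem_insert.mp hz with rfl | hz
    · exact Submodule.span_mono (Set.image_mono (le_sup_left : M ≤ M ⊔ N)) hxM
    · exact Submodule.span_mono (Set.image_mono (le_sup_right : N ≤ M ⊔ N)) (huN z hz)

theorem finite (hsq : EtMil.IsFibreSquare B' B A' A)
    [Module.Finite B (B ⊗[B'] L')] [Module.Finite A' (A' ⊗[B'] L')] : Module.Finite B' L' := by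
  obtain ⟨N₁, hN₁, h1⟩ := exists_fg_span_eq_top (B' := B') (L' := L') (S := B)
  obtain ⟨N₂, hN₂, h2⟩ := exists_fg_span_eq_top (B' := B') (L' := L') (S := A')
  have key : ∀ (S : Type u) [CommRing S] [Algebra B' S] (N : Submodule B' L'), N ≤ N₁ ⊔ N₂ →
      Submodule.span S (TensorProduct.mk B' S L' 1 '' N) = ⊤ →
      Subsingleton (S ⊗[B'] (L' ⧸ (N₁ ⊔ N₂))) := by
    intro S _ _ N hle hN
    refine subsingleton_of_forall_eq 0 fun z => ?_
    obtain ⟨w, rfl⟩ := LinearMap.lTensor_surjective S (Submodule.mkQ_surjective (N₁ ⊔ N₂)) z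
    have hw : w ∈ Submodule.span S (TensorProduct.mk B' S L' 1 '' N) := hN ▸ Submodule.mem_top
    have : w ∈ LinearMap.ker ((N₁ ⊔ N₂).mkQ.baseChange S) := by
      refine Submodule.span_le.mpr ?_ hw
      rintro _ ⟨n, hn, rfl⟩
      have : (N₁ ⊔ N₂).mkQ n = 0 := (Submodule.Quotient.mk_eq_zero _).mpr (hle hn)
      show (N₁ ⊔ N₂).mkQ.baseChange S ((1 : S) ⊗ₜ[B'] n) = 0
      rw [LinearMap.baseChange_tmul, this, tmul_zero]
    exact this
  have := subsingleton_of_subsingleton hsq (key B N₁ le_sup_left h1) (key A' N₂ le_sup_right h2)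
  rw [Submodule.Quotient.subsingleton_iff] at this
  exact ⟨this ▸ hN₁.sup hN₂⟩

/-- The base change of the kernel of a surjection onto a flat module with finitely presented base
change is finitely generated. -/
theorem finite_baseChange_ker {S : Type u} [CommRing S] [Algebra B' S]
    {F : Type u} [AddCommGroup F] [Module B' F] [Module.Finite B' F] [Module.Flat B' L']
    [Module.FinitePresentation S (S ⊗[B'] L')] (p : F →ₗ[B'] L') (hp : Function.Surjective p) :
    Module.Finite S (S ⊗[B'] LinearMap.ker p) := by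
  let i := (LinearMap.ker p).subtype
  have hip : Function.Exact i p := LinearMap.exact_subtype_ker_map p
  have hinj : Function.Injective (i.baseChange S) :=
    lTensor_injective_of_flat_coker (N := S) i p (Submodule.subtype_injective _) hip hp
  have hsurj : Function.Surjective (p.baseChange S) := LinearMap.lTensor_surjective S hp
  have hrange : LinearMap.range (i.baseChange S) = LinearMap.ker (p.baseChange S) := by
    ext z
    exact ((lTensor_exact S hip hp) z).symm
  have hfg := Module.FinitePresentation.fg_ker (p.baseChange S) hsurj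
  rw [← hrange] at hfg
  have := (Module.Finite.iff_fg).mpr hfg
  exact Module.Finite.equiv (LinearEquiv.ofInjective (i.baseChange S) hinj).symm

theorem finitePresentation (hsq : EtMil.IsFibreSquare B' B A' A)
    [Module.Flat B (B ⊗[B'] L')] [Module.FinitePresentation B (B ⊗[B'] L')]
    [Module.Flat A' (A' ⊗[B'] L')] [Module.FinitePresentation A' (A' ⊗[B'] L')] :
    Module.FinitePresentation B' L' := by
  have := flat (L' := L') hsq
  have := finite (L' := L') hsq
  obtain ⟨n, p, hp⟩ := Module.Finite.exists_fin' B' L'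
  have := finite_baseChange_ker (S := B) p hp
  have := finite_baseChange_ker (S := A') p hp
  have := finite (L' := LinearMap.ker p) hsq
  exact Module.finitePresentation_of_surjective p hp (Module.Finite.iff_fg.mp this)

theorem image_map_ker (hsq : EtMil.IsFibreSquare B' B A' A)
    (D' C' : Type u) [CommRing D'] [CommRing C'] [Algebra B' D'] [Algebra A' C']
    [Algebra D' C'] [Algebra B' C'] [IsScalarTower B' A' C'] [IsScalarTower B' D' C']
    [Algebra.IsPushout B' A' D' C'] :
    (algebraMap D' C') '' ((RingHom.ker (algebraMap B' B)).map (algebraMap B' D') : Set D') =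
      ((RingHom.ker (algebraMap A' A)).map (algebraMap A' C') : Set C') := by
  let J := RingHom.ker (algebraMap B' B)
  let T : AddSubmonoid C' := (J.map (algebraMap B' D')).toAddSubmonoid.map
    (algebraMap D' C').toAddMonoidHom
  have hT : ∀ c : C', ∀ t ∈ T, c * t ∈ T := by
    intro c
    refine (Algebra.IsPushout.out (R := B') (S := A') (R' := D') (S' := C')).inductionOn c
      (motive := fun c => ∀ t ∈ T, c * t ∈ T) ?_ ?_ ?_ ?_
    · intro t _
      rw [zero_mul]
      exact T.zero_mem
    · rintro d _ ⟨x, hx, rfl⟩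
      exact ⟨d * x, Ideal.mul_mem_left _ d hx, map_mul (algebraMap D' C') d x⟩
    · intro a c hc t ht
      rw [smul_mul_assoc]
      suffices ∀ t ∈ T, a • t ∈ T from this _ (hc t ht)
      rintro _ ⟨x, hx, rfl⟩
      refine Submodule.span_induction (p := fun x _ => a • algebraMap D' C' x ∈ T) ?_ ?_ ?_ ?_ hx
      · rintro _ ⟨j, hj, rfl⟩
        refine ⟨algebraMap B' D' (actKer hsq ⟨j, hj⟩ a).1,
          Ideal.mem_map_of_mem _ (actKer hsq ⟨j, hj⟩ a).2, ?_⟩
        change algebraMap D' C' (algebraMap B' D' (actKer hsq ⟨j, hj⟩ a).1) = _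
        rw [← IsScalarTower.algebraMap_apply, ← IsScalarTower.algebraMap_apply,
          IsScalarTower.algebraMap_apply B' A' C' j,
          IsScalarTower.algebraMap_apply B' A' C' (actKer hsq ⟨j, hj⟩ a).1, algebraMap_actKer,
          map_mul, Algebra.smul_def]
      · simpa using T.zero_mem
      · intro x y _ _ hx hy
        rw [map_add, smul_add]
        exact T.add_mem hx hy
      · intro d x _ hx
        obtain ⟨y, hy, hy'⟩ := hx
        refine ⟨d * y, Ideal.mul_mem_left _ d hy, ?_⟩
        change algebraMap D' C' (d * y) = _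
        rw [smul_eq_mul, map_mul, map_mul, ← mul_smul_comm, ← hy']
        rfl
    · intro c₁ c₂ h1 h2 t ht
      rw [add_mul]
      exact T.add_mem (h1 t ht) (h2 t ht)
  apply Set.Subset.antisymm
  · rintro _ ⟨x, hx, rfl⟩
    have := Ideal.mem_map_of_mem (algebraMap D' C') hx
    rw [Ideal.map_map, ← IsScalarTower.algebraMap_eq, IsScalarTower.algebraMap_eq B' A' C',
      ← Ideal.map_map] at this
    exact Ideal.map_mono (Ideal.map_le_iff_le_comap.mpr fun j hj =>
      algebraMap_mem_ker (RingHom.mem_ker.mp hj)) this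
  · intro y hy
    refine Submodule.span_induction (p := fun y _ => y ∈ T) ?_ T.zero_mem
      (fun _ _ _ _ h1 h2 => T.add_mem h1 h2) (fun c x _ hx => hT c x hx) hy
    rintro _ ⟨i, hi, rfl⟩
    obtain ⟨j, hj, rfl⟩ := exists_lift hsq (RingHom.mem_ker.mp hi)
    refine ⟨algebraMap B' D' j, Ideal.mem_map_of_mem _ (RingHom.mem_ker.mpr hj), ?_⟩
    change algebraMap D' C' (algebraMap B' D' j) = _
    rw [← IsScalarTower.algebraMap_apply, ← IsScalarTower.algebraMap_apply]

theorem conductor (A A' : Type u) [CommRing A] [CommRing A'] [Algebra A A']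
    (hinj : Function.Injective (algebraMap A A')) :
    EtMil.IsFibreSquare A (A ⧸ Module.annihilator A (A' ⧸ LinearMap.range (Algebra.linearMap A A'))) A'
      (A' ⧸ Ideal.map (algebraMap A A')
        (Module.annihilator A (A' ⧸ LinearMap.range (Algebra.linearMap A A')))) := by
  let c := Module.annihilator A (A' ⧸ LinearMap.range (Algebra.linearMap A A'))
  have hc : ∀ {i : A}, i ∈ c ↔ ∀ x : A', ∃ a, algebraMap A A' a = i • x := by
    intro i
    rw [Module.mem_annihilator]
    constructor
    · intro h x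
      have := h (Submodule.Quotient.mk x)
      rw [← Submodule.Quotient.mk_smul, Submodule.Quotient.mk_eq_zero] at this
      exact this
    · intro h q
      obtain ⟨x, rfl⟩ := Submodule.Quotient.mk_surjective _ q
      rw [← Submodule.Quotient.mk_smul, Submodule.Quotient.mk_eq_zero]
      exact h x
  have himg : ∀ y ∈ Ideal.map (algebraMap A A') c, ∃ i ∈ c, algebraMap A A' i = y := by
    intro y hy
    refine Submodule.span_induction (p := fun y _ => ∃ i ∈ c, algebraMap A A' i = y) ?_
      ⟨0, c.zero_mem, map_zero _⟩ ?_ ?_ hy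
    · rintro _ ⟨i, hi, rfl⟩
      exact ⟨i, hi, rfl⟩
    · rintro x y _ _ ⟨i, hi, rfl⟩ ⟨j, hj, rfl⟩
      exact ⟨i + j, c.add_mem hi hj, map_add _ _ _⟩
    · rintro z _ _ ⟨i, hi, rfl⟩
      obtain ⟨a, ha⟩ := hc.mp hi z
      refine ⟨a, hc.mpr fun x => ?_, by rw [ha, smul_eq_mul, Algebra.smul_def, mul_comm]⟩
      obtain ⟨b, hb⟩ := hc.mp hi (z * x)
      exact ⟨b, by rw [hb, Algebra.smul_def a, ha, Algebra.smul_def, Algebra.smul_def, mul_assoc]⟩
  refine ⟨Ideal.Quotient.mk_surjective, ?_⟩
  intro b a' h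
  obtain ⟨a, rfl⟩ := Ideal.Quotient.mk_surjective b
  have hmem : a' - algebraMap A A' a ∈ Ideal.map (algebraMap A A') c :=
    Ideal.Quotient.eq.mp h.symm
  obtain ⟨i, hi, hi'⟩ := himg _ hmem
  refine ⟨a + i, ⟨?_, by rw [map_add, hi']; ring⟩, ?_⟩
  · change Ideal.Quotient.mk c (a + i) = Ideal.Quotient.mk c a
    exact Ideal.Quotient.eq.mpr (by simpa using hi)
  · rintro y ⟨-, hy⟩
    apply hinj
    rw [hy, map_add, hi']
    ring

end Groth.Agent.Glue24.Milnor
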