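import Groth.Prelude.Def_EtGlue
import Mathlib.LinearAlgebra.DirectSum.Finsupp
import Mathlib.LinearAlgebra.TensorProduct.RightExactness
import Mathlib.RingTheory.IsTensorProduct
import Mathlib.RingTheory.Localization.BaseChange
import Mathlib.Tactic.LinearCombination
import Mathlib.Tactic.Ring
import Mathlib.Tactic.Abel

/-!
# Algebras with the same quotients modulo powers of an element
-/

universe u

open TensorProduct

namespace Groth.Agent.Glue24

/-- `A/aⁿ → T/aⁿ` is bijective for all `n`, unfolded. -/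
structure Dense (A T : Type u) [CommRing A] [CommRing T] [Algebra A T] (a : A) : Prop where
  decomp : ∀ (n : ℕ) (x : T), ∃ (r : A) (y : T),
    x = algebraMap A T r + algebraMap A T (a ^ n) * y
  dvd : ∀ (n : ℕ) (r : A), (∃ y : T, algebraMap A T r = algebraMap A T (a ^ n) * y) →
    ∃ s : A, r = a ^ n * s

variable {R R' : Type u} [CommRing R] [CommRing R'] [Algebra R R'] {f : R}

theorem dense_of_quotPowBijective (h : EtGlue.QuotPowBijective R R' f) : Dense R R' f := by
  constructor
  · intro n x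
    rcases Nat.eq_zero_or_pos n with rfl | hn
    · exact ⟨0, x, by simp⟩
    obtain ⟨q, hq⟩ := (h n hn).2 (Ideal.Quotient.mk _ x)
    obtain ⟨r, rfl⟩ := Ideal.Quotient.mk_surjective q
    rw [Ideal.quotientMap_mk] at hq
    have := Ideal.Quotient.eq.mp hq.symm
    rw [Ideal.map_span, Set.image_singleton, Ideal.mem_span_singleton'] at this
    obtain ⟨y, hy⟩ := this
    exact ⟨r, y, by rw [mul_comm, hy]; ring⟩
  · intro n r ⟨y, hy⟩
    rcases Nat.eq_zero_or_pos n with rfl | hn
    · exact ⟨r, by simp⟩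
    have h0 : Ideal.Quotient.mk (Ideal.span {f ^ n}) r = 0 := by
      apply (h n hn).1
      rw [Ideal.quotientMap_mk, map_zero, Ideal.Quotient.eq_zero_iff_mem, hy,
        Ideal.map_span, Set.image_singleton]
      exact Ideal.mul_mem_right _ _ (Ideal.mem_span_singleton_self _)
    obtain ⟨s, hs⟩ := Ideal.mem_span_singleton'.mp (Ideal.Quotient.eq_zero_iff_mem.mp h0)
    exact ⟨s, by rw [← hs, mul_comm]⟩

variable {Q : Type u} [AddCommGroup Q] [Module R Q]

namespace Dense

theorem smul_eq_smul (h : Dense R R' f) {n : ℕ} {q : Q} (hq : f ^ n • q = 0) {x : R'} {r r' : R}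
    {y y' : R'} (e : x = algebraMap R R' r + algebraMap R R' (f ^ n) * y)
    (e' : x = algebraMap R R' r' + algebraMap R R' (f ^ n) * y') : r • q = r' • q := by
  obtain ⟨s, hs⟩ := h.dvd n (r - r') ⟨y' - y, by rw [map_sub]; linear_combination e' - e⟩
  rw [← sub_eq_zero, ← sub_smul, hs, mul_comm, mul_smul, hq, smul_zero]

/-- A torsion module does not change under base change to `R'`. -/
theorem mk_one_injective_of_torsion (h : Dense R R' f) (hQ : ∀ q : Q, ∃ n : ℕ, f ^ n • q = 0) :
    Function.Injective (TensorProduct.mk R R' Q 1) := by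
  choose N hN using hQ
  choose r y hry using h.decomp
  have well : ∀ (x : R') (q : Q) (n : ℕ) (a : R) (b : R'), f ^ n • q = 0 →
      x = algebraMap R R' a + algebraMap R R' (f ^ n) * b → r (N q) x • q = a • q := by
    intro x q n a b hn e
    obtain ⟨c, d, hcd⟩ := h.decomp (n + N q) x
    have h1 : r (N q) x • q = c • q := h.smul_eq_smul (hN q) (hry _ x)
      (show x = _ + algebraMap R R' (f ^ N q) * (algebraMap R R' (f ^ n) * d) by
        rw [hcd, pow_add, map_mul]; ring)
    have h2 : a • q = c • q := h.smul_eq_smul hn e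
      (show x = _ + algebraMap R R' (f ^ n) * (algebraMap R R' (f ^ N q) * d) by
        rw [hcd, pow_add, map_mul]; ring)
    rw [h1, h2]
  let β : R' →ₗ[R] Q →ₗ[R] Q := LinearMap.mk₂ R (fun x q => r (N q) x • q)
    (fun x x' q => by
      rw [← add_smul]
      exact well _ _ (N q) _ (y (N q) x + y (N q) x') (hN q) (by
        conv_lhs => rw [hry (N q) x, hry (N q) x']
        rw [map_add]; ring))
    (fun c x q => by
      rw [smul_smul]
      exact well _ _ (N q) _ (algebraMap R R' c * y (N q) x) (hN q) (by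
        conv_lhs => rw [hry (N q) x]
        rw [Algebra.smul_def, map_mul]; ring))
    (fun x q q' => by
      have hq : f ^ (N q + N q') • q = 0 := by rw [pow_add, mul_comm, mul_smul, hN, smul_zero]
      have hq' : f ^ (N q + N q') • q' = 0 := by rw [pow_add, mul_smul, hN, smul_zero]
      have hqq : f ^ (N q + N q') • (q + q') = 0 := by rw [smul_add, hq, hq', add_zero]
      rw [well x _ _ _ _ hqq (hry _ x), well x q _ _ _ hq (hry _ x),
        well x q' _ _ _ hq' (hry _ x), smul_add])
    (fun c x q => by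
      have hcq : f ^ N q • (c • q) = 0 := by rw [smul_comm, hN, smul_zero]
      rw [well x _ _ _ _ hcq (hry _ x), smul_comm])
  intro q q' hqq
  have hone : ∀ q, β 1 q = q := by
    intro q
    have := well 1 q (N q) 1 0 (hN q) (by simp)
    simpa [β] using this
  have := congrArg (TensorProduct.lift β) hqq
  simpa [hone] using this

theorem subsingleton_of_torsion (h : Dense R R' f) (hQ : ∀ q : Q, ∃ n : ℕ, f ^ n • q = 0)
    (h' : Subsingleton (R' ⊗[R] Q)) : Subsingleton Q :=
  ⟨fun a b => h.mk_one_injective_of_torsion hQ (Subsingleton.elim _ _)⟩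

theorem exists_add_smul_tensor (h : Dense R R' f) (M : Type u) [AddCommGroup M] [Module R M] (n : ℕ)
    (z : R' ⊗[R] M) : ∃ (m : M) (w : R' ⊗[R] M), z = (1 : R') ⊗ₜ[R] m + f ^ n • w := by
  induction z using TensorProduct.induction_on with
  | zero => exact ⟨0, 0, by simp⟩
  | tmul x m =>
    obtain ⟨r, y, rfl⟩ := h.decomp n x
    refine ⟨r • m, y ⊗ₜ m, ?_⟩
    rw [add_tmul, Algebra.algebraMap_eq_smul_one r, smul_tmul, ← Algebra.smul_def,
      TensorProduct.smul_tmul']
  | add a b ha hb =>
    obtain ⟨m, w, rfl⟩ := ha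
    obtain ⟨m', w', rfl⟩ := hb
    exact ⟨m + m', w + w', by rw [tmul_add, smul_add]; abel⟩

/-- A torsion free element of `R' ⊗ M` comes from `M`. -/
theorem exists_torsion_lift (h : Dense R R' f)
    (hinj : ∀ (n : ℕ) (x : R'), f ^ n • x = 0 → ∃ r : R, algebraMap R R' r = x ∧ f ^ n * r = 0)
    {M : Type u} [AddCommGroup M] [Module R M] (n : ℕ) (t : R' ⊗[R] M) (ht : f ^ n • t = 0) :
    ∃ m : M, f ^ n • m = 0 ∧ (1 : R') ⊗ₜ[R] m = t := by
  classical
  let π : (M →₀ R) →ₗ[R] M := Finsupp.linearCombination R id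
  have hπ : Function.Surjective π := fun m => ⟨Finsupp.single m 1, by simp [π]⟩
  have hπex : Function.Exact (LinearMap.ker π).subtype π := LinearMap.exact_subtype_ker_map π
  obtain ⟨t₁, rfl⟩ := LinearMap.lTensor_surjective R' hπ t
  rw [← map_smul] at ht
  obtain ⟨z, hz⟩ := (lTensor_exact (M := LinearMap.ker π) (N := M →₀ R) (P := M) (f := (LinearMap.ker π).subtype) (g := π) R' hπex hπ _).mp ht
  obtain ⟨p, w, rfl⟩ := h.exists_add_smul_tensor (LinearMap.ker π) n z
  rw [map_add, map_smul, LinearMap.lTensor_tmul] at hz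
  let t₂ := t₁ - (LinearMap.ker π).subtype.lTensor R' w
  have ht₂ : f ^ n • t₂ = (1 : R') ⊗ₜ[R] (p : M →₀ R) := by
    simp only [t₂, smul_sub, ← hz]
    exact add_sub_cancel_right _ _
  have hπ₂ : π.lTensor R' t₂ = π.lTensor R' t₁ := by
    simp only [t₂, map_sub]
    rw [(lTensor_exact (M := LinearMap.ker π) (N := M →₀ R) (P := M) (f := (LinearMap.ker π).subtype) (g := π) R' hπex hπ).apply_apply_eq_zero, sub_zero]
  rw [← hπ₂]
  let e := TensorProduct.finsuppScalarRight R R R' M
  let x := e t₂
  have hx : ∀ j, f ^ n • x j = algebraMap R R' ((p : M →₀ R) j) := by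
    intro j
    have := congrArg (fun s => e s j) ht₂
    simp only [map_smul, Finsupp.smul_apply] at this
    rw [this]
    simp [e, Algebra.algebraMap_eq_smul_one]
  have hu : ∀ j, ∃ u : R, algebraMap R R' u = x j ∧ f ^ n * u = (p : M →₀ R) j := by
    intro j
    obtain ⟨s, hs⟩ := h.dvd n ((p : M →₀ R) j) ⟨x j, by rw [← hx, Algebra.smul_def]⟩
    obtain ⟨r, hr, hr0⟩ := hinj n (x j - algebraMap R R' s) (by
      rw [smul_sub, hx, hs, Algebra.smul_def, map_mul, sub_self])
    exact ⟨s + r, by rw [map_add, hr]; ring, by rw [mul_add, hr0, hs, add_zero]⟩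
  choose u hu1 hu2 using hu
  let S := x.support ∪ (p : M →₀ R).support
  let v : M →₀ R := Finsupp.onFinset S (fun j => if j ∈ S then u j else 0) (fun j hj => by
    by_contra hjS
    exact hj (if_neg hjS))
  have hv : ∀ j, algebraMap R R' (v j) = x j ∧ f ^ n * v j = (p : M →₀ R) j := by
    intro j
    simp only [v, Finsupp.onFinset_apply]
    split_ifs with hj
    · exact ⟨hu1 j, hu2 j⟩
    · simp only [S, Finset.mem_union, Finsupp.mem_support_iff, not_or, ne_eq, not_not] at hj
      simp [hj.1, hj.2]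
  have hpv : (p : M →₀ R) = f ^ n • v := Finsupp.ext fun j => by simp [(hv j).2]
  have htv : t₂ = (1 : R') ⊗ₜ[R] v := by
    apply e.injective
    ext j
    rw [show e ((1 : R') ⊗ₜ[R] v) j = v j • (1 : R') by simp [e],
      ← Algebra.algebraMap_eq_smul_one, (hv j).1]
  refine ⟨π v, ?_, ?_⟩
  · rw [← map_smul, ← hpv]
    exact LinearMap.mem_ker.mp p.2
  · rw [htv, LinearMap.lTensor_tmul]

end Dense

end Groth.Agent.Glue24
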