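import Groth.Agent.Glue24.Dense
import Groth.Agent.Glue24.SurjTor
import Mathlib.RingTheory.FinitePresentation
import Mathlib.RingTheory.Kaehler.TensorProduct
import Mathlib.RingTheory.Unramified.Basic
import Mathlib.RingTheory.Flat.Stability
import Mathlib.RingTheory.Ideal.Quotient.Operations
import Mathlib.RingTheory.Finiteness.Basic

/-!
# Detecting properties after base change to `T` and localization at `a`
-/

universe u

open TensorProduct

namespace Groth.Agent.Glue24

variable {A T : Type u} [CommRing A] [CommRing T] [Algebra A T] {a : A}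

namespace Dense

theorem subsingleton_of_both (h : Dense A T a) {Q : Type u} [AddCommGroup Q] [Module A Q]
    (h1 : Subsingleton (Localization.Away a ⊗[A] Q)) (h2 : Subsingleton (T ⊗[A] Q)) :
    Subsingleton Q := by
  refine h.subsingleton_of_torsion (fun q => ?_) h2
  have h0 : TensorProduct.mk A (Localization.Away a) Q 1 q =
      TensorProduct.mk A (Localization.Away a) Q 1 0 := Subsingleton.elim _ _
  obtain ⟨⟨_, n, rfl⟩, hn⟩ := (IsLocalizedModule.eq_iff_exists (Submonoid.powers a)
    (TensorProduct.mk A (Localization.Away a) Q 1)).mp h0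
  exact ⟨n, hn.trans (smul_zero _)⟩

theorem eq_top_of_both (h : Dense A T a) {M : Type u} [AddCommGroup M] [Module A M]
    (N : Submodule A M) (h1 : Function.Surjective (N.subtype.lTensor (Localization.Away a)))
    (h2 : Function.Surjective (N.subtype.lTensor T)) : N = ⊤ := by
  have key : ∀ (S : Type u) [CommRing S] [Algebra A S], Function.Surjective (N.subtype.lTensor S) →
      Subsingleton (S ⊗[A] (M ⧸ N)) := by
    intro S _ _ hS
    refine subsingleton_of_forall_eq 0 fun z => ?_
    obtain ⟨w, rfl⟩ := LinearMap.lTensor_surjective S N.mkQ_surjective z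
    obtain ⟨v, rfl⟩ := hS w
    exact (lTensor_exact S (LinearMap.exact_subtype_mkQ N) N.mkQ_surjective).apply_apply_eq_zero v
  exact Submodule.Quotient.subsingleton_iff.mp (h.subsingleton_of_both (key _ h1) (key _ h2))

variable {B : Type u} [CommRing B] [Algebra A B]

theorem surjective (h : Dense A T a)
    (h1 : Function.Surjective (algebraMap (Localization.Away a) (Localization.Away a ⊗[A] B)))
    (h2 : Function.Surjective (algebraMap T (T ⊗[A] B))) : Function.Surjective (algebraMap A B) := by
  have key : ∀ (S : Type u) [CommRing S] [Algebra A S],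
      Function.Surjective (algebraMap S (S ⊗[A] B)) →
      Function.Surjective ((LinearMap.range (Algebra.linearMap A B)).subtype.lTensor S) := by
    intro S _ _ hS z
    obtain ⟨s, rfl⟩ := hS z
    exact ⟨s ⊗ₜ ⟨1, ⟨1, map_one (algebraMap A B)⟩⟩, rfl⟩
  exact LinearMap.range_eq_top.mp (h.eq_top_of_both _ (key _ h1) (key _ h2))

omit [Algebra A T] in
theorem exists_fg_lTensor_surjective (S : Type u) [CommRing S] [Algebra A S] {M : Type u}
    [AddCommGroup M] [Module A M] [Module.Finite S (S ⊗[A] M)] :
    ∃ N : Submodule A M, N.FG ∧ Function.Surjective (N.subtype.lTensor S) := by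
  classical
  obtain ⟨t, ht⟩ := Module.Finite.fg_top (R := S) (M := S ⊗[A] M)
  choose c hc using fun z : S ⊗[A] M => TensorProduct.exists_finset z
  refine ⟨Submodule.span A ↑(t.biUnion fun z => (c z).image Prod.snd), ⟨_, rfl⟩, fun w => ?_⟩
  have hw : w ∈ Submodule.span S (t : Set (S ⊗[A] M)) := ht ▸ Submodule.mem_top
  refine Submodule.span_induction (p := fun w _ => w ∈ LinearMap.range
    ((Submodule.span A (↑(t.biUnion fun z => (c z).image Prod.snd) : Set M)).subtype.baseChange S))
    ?_ (Submodule.zero_mem _) (fun _ _ _ _ => Submodule.add_mem _)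
    (fun r _ _ => Submodule.smul_mem _ r) hw
  intro z hz
  rw [hc z]
  refine Submodule.sum_mem _ fun p hp => ?_
  exact ⟨p.1 ⊗ₜ ⟨p.2, Submodule.subset_span
    (Finset.mem_biUnion.mpr ⟨z, hz, Finset.mem_image_of_mem _ hp⟩)⟩, rfl⟩

theorem finite (h : Dense A T a) {M : Type u} [AddCommGroup M] [Module A M]
    [Module.Finite (Localization.Away a) (Localization.Away a ⊗[A] M)]
    [Module.Finite T (T ⊗[A] M)] : Module.Finite A M := by
  obtain ⟨N₁, hN₁, h1⟩ := exists_fg_lTensor_surjective (A := A) (Localization.Away a) (M := M)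
  obtain ⟨N₂, hN₂, h2⟩ := exists_fg_lTensor_surjective (A := A) T (M := M)
  have key : ∀ (S : Type u) [CommRing S] [Algebra A S] (N : Submodule A M) (hle : N ≤ N₁ ⊔ N₂),
      Function.Surjective (N.subtype.lTensor S) →
      Function.Surjective ((N₁ ⊔ N₂).subtype.lTensor S) := by
    intro S _ _ N hle hN z
    obtain ⟨w, rfl⟩ := hN z
    refine ⟨(Submodule.inclusion hle).lTensor S w, ?_⟩
    rw [← LinearMap.comp_apply, ← LinearMap.lTensor_comp]
    rfl
  exact ⟨h.eq_top_of_both _ (key _ N₁ le_sup_left h1) (key _ N₂ le_sup_right h2) ▸ hN₁.sup hN₂⟩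

omit [Algebra A T] in
theorem exists_adjoin_lTensor_surjective (S : Type u) [CommRing S] [Algebra A S]
    [Algebra.FiniteType S (S ⊗[A] B)] :
    ∃ s : Finset B, ∀ s' : Subalgebra A B, (s : Set B) ⊆ s' →
      Function.Surjective ((Subalgebra.toSubmodule s').subtype.lTensor S) := by
  classical
  obtain ⟨t, ht⟩ := (inferInstance : Algebra.FiniteType S (S ⊗[A] B)).out
  choose c hc using fun z : S ⊗[A] B => TensorProduct.exists_finset z
  refine ⟨t.biUnion fun z => (c z).image Prod.snd, fun s' hs' w => ?_⟩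
  let ψ := Algebra.TensorProduct.map (AlgHom.id S S) s'.val
  have hψ : ∀ v, ψ v = (Subalgebra.toSubmodule s').subtype.lTensor S v := by
    intro v
    induction v using TensorProduct.induction_on with
    | zero => simp
    | tmul x y => rfl
    | add x y hx hy => simp only [map_add, hx, hy]
  have hw : w ∈ Algebra.adjoin S (t : Set (S ⊗[A] B)) := ht ▸ Algebra.mem_top
  have hle : Algebra.adjoin S (t : Set (S ⊗[A] B)) ≤ ψ.range := by
    rw [Algebra.adjoin_le_iff]
    intro z hz
    rw [hc z]
    refine Subalgebra.sum_mem _ fun p hp => ?_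
    exact ⟨p.1 ⊗ₜ ⟨p.2, hs' (Finset.mem_biUnion.mpr ⟨z, hz, Finset.mem_image_of_mem _ hp⟩)⟩, rfl⟩
  obtain ⟨v, hv⟩ := hle hw
  exact ⟨v, (hψ v).symm.trans hv⟩

theorem finiteType (h : Dense A T a)
    [Algebra.FiniteType (Localization.Away a) (Localization.Away a ⊗[A] B)]
    [Algebra.FiniteType T (T ⊗[A] B)] : Algebra.FiniteType A B := by
  classical
  obtain ⟨s₁, h1⟩ := exists_adjoin_lTensor_surjective (A := A) (B := B) (Localization.Away a)
  obtain ⟨s₂, h2⟩ := exists_adjoin_lTensor_surjective (A := A) (B := B) T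
  let s' := Algebra.adjoin A (↑(s₁ ∪ s₂) : Set B)
  have := h.eq_top_of_both (Subalgebra.toSubmodule s')
    (h1 s' (fun x hx => Algebra.subset_adjoin (Finset.mem_union_left _ hx)))
    (h2 s' (fun x hx => Algebra.subset_adjoin (Finset.mem_union_right _ hx)))
  refine ⟨⟨s₁ ∪ s₂, ?_⟩⟩
  rw [eq_top_iff]
  intro x _
  exact (Subalgebra.mem_toSubmodule s').mp (this ▸ Submodule.mem_top)

omit [Algebra A T] in
theorem exists_ker_generators (S : Type u) [CommRing S] [Algebra A S] {P : Type u} [CommRing P]
    [Algebra A P] [Algebra.FinitePresentation A P] [Algebra.FinitePresentation S (S ⊗[A] B)]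
    [Module.Flat A B] (π : P →ₐ[A] B) (hπ : Function.Surjective π) :
    ∃ s : Finset P, (∀ x ∈ s, x ∈ RingHom.ker π) ∧ ∀ (K₀ : Ideal P) (hle : K₀ ≤ RingHom.ker π),
      (s : Set P) ⊆ K₀ →
      Function.Surjective
        ((Submodule.inclusion (show K₀.restrictScalars A ≤ (RingHom.ker π).restrictScalars A
          from hle)).lTensor S) := by
  classical
  let ψ : S ⊗[A] P →ₐ[S] S ⊗[A] B := Algebra.TensorProduct.map (AlgHom.id S S) π
  have hψ : ∀ v, ψ v = π.toLinearMap.lTensor S v := by
    intro v
    induction v using TensorProduct.induction_on with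
    | zero => simp
    | tmul x y => rfl
    | add x y hx hy => simp only [map_add, hx, hy]
  have hψs : Function.Surjective ψ := fun z => by
    obtain ⟨v, hv⟩ := LinearMap.lTensor_surjective S (show Function.Surjective π.toLinearMap from hπ) z
    exact ⟨v, (hψ v).trans hv⟩
  obtain ⟨t, ht⟩ := Algebra.FinitePresentation.ker_fG_of_surjective ψ hψs
  let K := (RingHom.ker π).restrictScalars A
  have hex : Function.Exact K.subtype π.toLinearMap := fun x =>
    ⟨fun hx => ⟨⟨x, hx⟩, rfl⟩, by rintro ⟨y, rfl⟩; exact y.2⟩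
  have hinj : Function.Injective (K.subtype.lTensor S) :=
    lTensor_injective_of_flat_coker K.subtype π.toLinearMap K.subtype_injective hex hπ
  have hexS := lTensor_exact (M := K) (f := K.subtype) (g := π.toLinearMap) S hex hπ
  have hlift : ∀ z ∈ RingHom.ker ψ.toRingHom, ∃ w, K.subtype.lTensor S w = z := by
    intro z hz
    have hz' : π.toLinearMap.lTensor S z = 0 := (hψ z).symm.trans (RingHom.mem_ker.mp hz)
    exact (hexS z).mp hz'
  choose lift hliftspec using hlift
  choose c hc using fun z : S ⊗[A] K => TensorProduct.exists_finset z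
  let tt : Finset {z // z ∈ RingHom.ker ψ.toRingHom} := t.subtype _
  let s : Finset P := tt.biUnion fun z => (c (lift z.1 z.2)).image fun p => (p.2 : P)
  refine ⟨s, ?_, fun K₀ hle hs w => ?_⟩
  · intro x hx
    simp only [s, Finset.mem_biUnion, Finset.mem_image] at hx
    obtain ⟨z, -, p, -, rfl⟩ := hx
    exact p.2.2
  let ι : K₀.restrictScalars A →ₗ[A] P := (K₀.restrictScalars A).subtype
  have hideal : ∀ (q : S ⊗[A] P) (v : S ⊗[A] (K₀.restrictScalars A)),
      ∃ v', ι.lTensor S v' = q * ι.lTensor S v := by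
    intro q v
    induction q using TensorProduct.induction_on with
    | zero => exact ⟨0, by simp⟩
    | tmul y p =>
      induction v using TensorProduct.induction_on with
      | zero => exact ⟨0, by simp⟩
      | tmul x k => exact ⟨(y * x) ⊗ₜ ⟨p * k.1, K₀.mul_mem_left p k.2⟩, by
          simp [ι, Algebra.TensorProduct.tmul_mul_tmul]⟩
      | add v v' hv hv' =>
        obtain ⟨⟨u, hu⟩, ⟨u', hu'⟩⟩ := And.intro hv hv'
        exact ⟨u + u', by rw [map_add, map_add, mul_add, hu, hu']⟩
    | add q q' hq hq' =>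
      obtain ⟨⟨u, hu⟩, ⟨u', hu'⟩⟩ := And.intro hq hq'
      exact ⟨u + u', by rw [map_add, add_mul, hu, hu']⟩
  have hsub : ∀ z ∈ RingHom.ker ψ.toRingHom, ∃ v, ι.lTensor S v = z := by
    intro z hz
    rw [← ht] at hz
    refine Submodule.span_induction (p := fun z _ => ∃ v, ι.lTensor S v = z) ?_ ⟨0, map_zero _⟩
      ?_ ?_ hz
    · intro z hz
      have hzk : z ∈ RingHom.ker ψ.toRingHom := ht ▸ Ideal.subset_span hz
      rw [← hliftspec z hzk, hc (lift z hzk), map_sum]
      have : ∀ p ∈ c (lift z hzk), ∃ v, ι.lTensor S v = K.subtype.lTensor S (p.1 ⊗ₜ p.2) := by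
        intro p hp
        refine ⟨p.1 ⊗ₜ ⟨(p.2 : P), hs ?_⟩, rfl⟩
        exact Finset.mem_biUnion.mpr ⟨⟨z, hzk⟩, Finset.mem_subtype.mpr hz,
          Finset.mem_image.mpr ⟨p, hp, rfl⟩⟩
      choose! v hv using this
      exact ⟨∑ p ∈ c (lift z hzk), v p, by rw [map_sum]; exact Finset.sum_congr rfl hv⟩
    · rintro x y _ _ ⟨u, rfl⟩ ⟨v, rfl⟩
      exact ⟨u + v, map_add _ _ _⟩
    · rintro q x _ ⟨v, rfl⟩
      exact hideal q v
  obtain ⟨v, hv⟩ := hsub (K.subtype.lTensor S w) (by
    rw [RingHom.mem_ker]
    exact (hψ _).trans (hexS.apply_apply_eq_zero w))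
  refine ⟨v, hinj ?_⟩
  rw [← hv, ← LinearMap.comp_apply, ← LinearMap.lTensor_comp]
  rfl

theorem finitePresentation (h : Dense A T a) [Module.Flat A B]
    [Algebra.FinitePresentation (Localization.Away a) (Localization.Away a ⊗[A] B)]
    [Algebra.FinitePresentation T (T ⊗[A] B)] : Algebra.FinitePresentation A B := by
  classical
  have := h.finiteType (B := B)
  obtain ⟨n, π, hπ⟩ := Algebra.FiniteType.iff_quotient_mvPolynomial''.mp this
  obtain ⟨s₁, hs₁, h1⟩ := exists_ker_generators (Localization.Away a) π hπ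
  obtain ⟨s₂, hs₂, h2⟩ := exists_ker_generators T π hπ
  let K₀ : Ideal (MvPolynomial (Fin n) A) := Ideal.span ↑(s₁ ∪ s₂)
  have hle : K₀ ≤ RingHom.ker π := Ideal.span_le.mpr fun x hx =>
    (Finset.mem_union.mp hx).elim (hs₁ x) (hs₂ x)
  let i : K₀.restrictScalars A →ₗ[A] (RingHom.ker π).restrictScalars A :=
    Submodule.inclusion (show K₀.restrictScalars A ≤ (RingHom.ker π).restrictScalars A from hle)
  have hsur : ∀ (S : Type u) [CommRing S] [Algebra A S], Function.Surjective (i.lTensor S) →
      Function.Surjective ((LinearMap.range i).subtype.lTensor S) := by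
    intro S _ _ hS z
    obtain ⟨w, rfl⟩ := hS z
    refine ⟨i.rangeRestrict.lTensor S w, ?_⟩
    rw [← LinearMap.comp_apply, ← LinearMap.lTensor_comp]
    rfl
  have htop := h.eq_top_of_both (LinearMap.range i)
    (hsur _ (h1 K₀ hle fun x hx => Ideal.subset_span (Finset.mem_union_left _ hx)))
    (hsur _ (h2 K₀ hle fun x hx => Ideal.subset_span (Finset.mem_union_right _ hx)))
  have hK : RingHom.ker π = K₀ := by
    refine le_antisymm (fun x hx => ?_) hle
    obtain ⟨y, hy⟩ := LinearMap.range_eq_top.mp htop ⟨x, hx⟩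
    have hxy : (y : MvPolynomial (Fin n) A) = x := congrArg Subtype.val hy
    exact hxy ▸ y.2
  exact Algebra.FinitePresentation.of_surjective hπ ⟨s₁ ∪ s₂, hK.symm⟩

theorem formallyUnramified (h : Dense A T a) [Algebra.FiniteType A B]
    [Algebra.FormallyUnramified (Localization.Away a) (Localization.Away a ⊗[A] B)]
    [Algebra.FormallyUnramified T (T ⊗[A] B)] : Algebra.FormallyUnramified A B := by
  letI : Algebra B (Localization.Away a ⊗[A] B) := Algebra.TensorProduct.rightAlgebra
  letI : Algebra B (T ⊗[A] B) := Algebra.TensorProduct.rightAlgebra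
  exact ⟨h.subsingleton_of_both
    (KaehlerDifferential.tensorKaehlerEquivBase A (Localization.Away a) B
      (Localization.Away a ⊗[A] B)).toEquiv.subsingleton
    (KaehlerDifferential.tensorKaehlerEquivBase A T B (T ⊗[A] B)).toEquiv.subsingleton⟩

theorem flat (h : Dense A T a)
    (htor : ∀ (n : ℕ) (x : T), a ^ n • x = 0 → ∃ r : A, algebraMap A T r = x ∧ a ^ n * r = 0)
    (hinjA : ∀ (n : ℕ) (r : A), a ^ n * r = 0 → algebraMap A T r = 0 → r = 0)
    {M : Type u} [AddCommGroup M] [Module A M]
    (hinjM : ∀ (n : ℕ) (m : M), a ^ n • m = 0 → (1 : T) ⊗ₜ[A] m = 0 → m = 0)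
    [Module.Flat T (T ⊗[A] M)] [Module.Flat A (Localization.Away a ⊗[A] M)] :
    Module.Flat A M := by
  -- the annihilator of `a ^ n`
  let Z : ℕ → Submodule A A := fun n => LinearMap.ker (LinearMap.lsmul A A (a ^ n))
  let Z' : ℕ → Submodule T T := fun n => LinearMap.ker (LinearMap.lsmul T T (algebraMap A T (a ^ n)))
  have hZmap : ∀ n, ∀ z ∈ Z n, algebraMap A T z ∈ Z' n := by
    intro n z hz
    have hz' : a ^ n * z = 0 := by simpa [Z] using hz
    simp [Z', ← map_pow, ← map_mul, hz']
  have hZinj : ∀ n, Function.Injective ((Z n).subtype.rTensor M) := by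
    intro n
    let η : Z n →ₗ[A] Z' n := (Algebra.linearMap A T).restrict (q := (Z' n).restrictScalars A)
      (fun z hz => hZmap n z hz)
    have hη : Function.Bijective η := by
      constructor
      · intro x y hxy
        apply Subtype.ext
        rw [← sub_eq_zero]
        refine hinjA n _ (by simpa [Z] using (Submodule.sub_mem _ x.2 y.2)) ?_
        rw [map_sub, sub_eq_zero]
        exact congrArg Subtype.val hxy
      · intro x
        have hx : a ^ n • (x : T) = 0 := by simpa [Z', Algebra.smul_def] using x.2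
        obtain ⟨r, hr, hr0⟩ := htor n x hx
        exact ⟨⟨r, by simpa [Z] using hr0⟩, Subtype.ext hr⟩
    have h1 : Function.Injective (((Z' n).subtype.restrictScalars A).rTensor M) :=
      rTensor_injective_of_flat_baseChange (Z' n).subtype (Submodule.subtype_injective _)
    have h2 : ((Z' n).subtype.restrictScalars A).rTensor M ∘ₗ η.rTensor M =
        (Algebra.linearMap A T).rTensor M ∘ₗ (Z n).subtype.rTensor M := by
      rw [← LinearMap.rTensor_comp, ← LinearMap.rTensor_comp]
      rfl
    intro x y hxy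
    apply ((LinearEquiv.ofBijective η hη).rTensor M).injective
    apply h1
    exact (LinearMap.congr_fun h2 x).trans
      ((congrArg _ hxy).trans (LinearMap.congr_fun h2 y).symm)
  -- the quotient by `a ^ n`
  have key : ∀ n {P P' : Type u} [AddCommGroup P] [Module A P] [AddCommGroup P'] [Module A P']
      (g : P →ₗ[A] P'), Function.Injective g → (∀ x : P', a ^ n • x ∈ LinearMap.range g) →
      Function.Injective (g.rTensor M) := by
    intro n P P' _ _ _ _ g hg hcok
    let I : Ideal A := Ideal.span {a ^ n}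
    have hkerI : RingHom.ker (algebraMap A (A ⧸ I)) = I := Ideal.mk_ker
    have hJ : Function.Injective ((RingHom.ker (algebraMap A (A ⧸ I))).subtype.rTensor M) := by
      rw [hkerI, ← LinearMap.ker_eq_bot, LinearMap.ker_eq_bot']
      intro z hz
      let p : I := ⟨a ^ n, Ideal.mem_span_singleton_self _⟩
      obtain ⟨m, rfl⟩ : ∃ m : M, p ⊗ₜ[A] m = z := by
        clear hz
        induction z using TensorProduct.induction_on with
        | zero => exact ⟨0, tmul_zero _ _⟩
        | tmul x m =>
          obtain ⟨c, hc⟩ := Ideal.mem_span_singleton'.mp x.2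
          refine ⟨c • m, ?_⟩
          rw [← smul_tmul]
          congr 1
          exact Subtype.ext hc
        | add x y hx hy =>
          obtain ⟨⟨u, rfl⟩, ⟨v, rfl⟩⟩ := And.intro hx hy
          exact ⟨u + v, tmul_add _ _ _⟩
      have hm : a ^ n • m = 0 := by
        have := congrArg (TensorProduct.lid A M) hz
        simpa [p] using this
      let i := (Z' n).subtype
      have hex : Function.Exact i (LinearMap.lsmul T T (algebraMap A T (a ^ n))) :=
        LinearMap.exact_subtype_ker_map _
      have hm' : ((LinearMap.lsmul T T (algebraMap A T (a ^ n))).rTensor (T ⊗[A] M))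
          ((1 : T) ⊗ₜ[T] ((1 : T) ⊗ₜ[A] m)) = 0 := by
        rw [LinearMap.rTensor_tmul, LinearMap.lsmul_apply, smul_tmul, algebraMap_smul,
          ← tmul_smul, hm, tmul_zero, tmul_zero]
      obtain ⟨w, hw⟩ := (Module.Flat.rTensor_exact (T ⊗[A] M) hex _).mp hm'
      have main : ∀ w : Z' n ⊗[T] (T ⊗[A] M), ∃ m₁ : M, a ^ n • m₁ = 0 ∧ p ⊗ₜ[A] m₁ = 0 ∧
          TensorProduct.lid T _ (i.rTensor _ w) = (1 : T) ⊗ₜ[A] m₁ := by
        intro w
        induction w using TensorProduct.induction_on with
        | zero => exact ⟨0, by simp, by simp, by simp⟩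
        | tmul z v =>
          obtain ⟨m₁, v', rfl⟩ := h.exists_add_smul_tensor M n v
          have hz0 : a ^ n • (z : T) = 0 := by simpa [Z', Algebra.smul_def] using z.2
          obtain ⟨r, hr, hr0⟩ := htor n z hz0
          have hp : r • p = 0 := Subtype.ext (by simpa [p, mul_comm] using hr0)
          refine ⟨r • m₁, by rw [smul_smul, hr0, zero_smul],
            by rw [← smul_tmul, hp, zero_tmul], ?_⟩
          rw [LinearMap.rTensor_tmul, TensorProduct.lid_tmul]
          show (z : T) • _ = _
          rw [smul_add, smul_comm (z : T) (a ^ n), ← smul_assoc (a ^ n) (z : T), hz0, zero_smul,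
            add_zero, smul_tmul', smul_eq_mul, mul_one, ← hr, Algebra.algebraMap_eq_smul_one,
            smul_tmul]
        | add x y hx hy =>
          obtain ⟨⟨u, hu, hu', hu''⟩, ⟨v, hv, hv', hv''⟩⟩ := And.intro hx hy
          exact ⟨u + v, by rw [smul_add, hu, hv, add_zero], by rw [tmul_add, hu', hv', add_zero],
            by rw [map_add, map_add, hu'', hv'', tmul_add]⟩
      obtain ⟨m₁, hm₁, hm₁', hm₁''⟩ := main w
      rw [hw, TensorProduct.lid_tmul, one_smul] at hm₁''
      have : m - m₁ = 0 := hinjM n _ (by rw [smul_sub, hm, hm₁, sub_zero])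
        (by rw [tmul_sub, hm₁'', sub_self])
      rw [sub_eq_zero.mp this, hm₁']
    let τ : T →ₐ[A] A ⧸ I := by
      have hb : Function.Bijective
          (Ideal.quotientMapₐ (I.map (algebraMap A T)) (Algebra.ofId A T) Ideal.le_comap_map) := by
        constructor
        · rw [injective_iff_map_eq_zero]
          intro x hx
          obtain ⟨r, rfl⟩ := Ideal.Quotient.mk_surjective x
          have hx' : algebraMap A T r ∈ I.map (algebraMap A T) :=
            Ideal.Quotient.eq_zero_iff_mem.mp hx
          rw [Ideal.map_span, Set.image_singleton, Ideal.mem_span_singleton'] at hx'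
          obtain ⟨y, hy⟩ := hx'
          obtain ⟨s, hs⟩ := h.dvd n r ⟨y, by rw [← hy, mul_comm]⟩
          exact Ideal.Quotient.eq_zero_iff_mem.mpr (Ideal.mem_span_singleton'.mpr
            ⟨s, by rw [hs, mul_comm]⟩)
        · intro x
          obtain ⟨t, rfl⟩ := Ideal.Quotient.mk_surjective x
          obtain ⟨r, y, rfl⟩ := h.decomp n t
          refine ⟨Ideal.Quotient.mk I r, ?_⟩
          apply Ideal.Quotient.eq.mpr
          show algebraMap A T r - _ ∈ _
          rw [sub_add_cancel_left, neg_mem_iff]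
          exact Ideal.mul_mem_right _ _ (Ideal.mem_map_of_mem _ (Ideal.mem_span_singleton_self _))
      exact (AlgEquiv.ofBijective _ hb).symm.toAlgHom.comp (Ideal.Quotient.mkₐ A _)
    letI : Algebra T (A ⧸ I) := τ.toRingHom.toAlgebra
    haveI : IsScalarTower A T (A ⧸ I) := IsScalarTower.of_algebraMap_eq fun r => (τ.commutes r).symm
    have : Module.Flat (A ⧸ I) ((A ⧸ I) ⊗[A] M) :=
      Module.Flat.of_linearEquiv (AlgebraTensorModule.cancelBaseChange A T (A ⧸ I) (A ⧸ I) M).symm
    refine rTensor_injective_of_ker_smul_mem_range (B := A ⧸ I) Ideal.Quotient.mk_surjective hJ g hg ?_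
    intro j hj x
    rw [hkerI] at hj
    obtain ⟨c, rfl⟩ := Ideal.mem_span_singleton'.mp hj
    rw [mul_smul]
    exact Submodule.smul_mem _ c (hcok x)
  rw [Module.Flat.iff_rTensor_injective']
  intro 𝔞
  rw [← LinearMap.ker_eq_bot, LinearMap.ker_eq_bot']
  intro k hk
  let E := Localization.Away a ⊗[A] M
  obtain ⟨n, hn⟩ : ∃ n : ℕ, a ^ n • k = 0 := by
    have h0 : TensorProduct.mk A (Localization.Away a) (𝔞 ⊗[A] M) 1 k =
        TensorProduct.mk A (Localization.Away a) (𝔞 ⊗[A] M) 1 0 := by
      apply (TensorProduct.leftComm A (Localization.Away a) 𝔞 M).injective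
      apply Module.Flat.rTensor_preserves_injective_linearMap (M := E) 𝔞.subtype
        (Submodule.subtype_injective _)
      rw [map_zero, map_zero, map_zero]
      have : (𝔞.subtype.rTensor E) ∘ₗ (TensorProduct.leftComm A (Localization.Away a) 𝔞 M).toLinearMap =
          (TensorProduct.leftComm A (Localization.Away a) A M).toLinearMap ∘ₗ
            (𝔞.subtype.rTensor M).lTensor (Localization.Away a) := by
        ext r x m
        simp
      refine (LinearMap.congr_fun this _).trans ?_
      simp [hk]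
    obtain ⟨⟨_, n, rfl⟩, hn⟩ := (IsLocalizedModule.eq_iff_exists (Submonoid.powers a)
      (TensorProduct.mk A (Localization.Away a) (𝔞 ⊗[A] M) 1)).mp h0
    exact ⟨n, hn.trans (smul_zero _)⟩
  let c : Submodule A A := Submodule.comap (LinearMap.lsmul A A (a ^ n)) 𝔞
  have hle : 𝔞 ≤ c := fun x hx => 𝔞.mul_mem_left (a ^ n) hx
  let i : 𝔞 →ₗ[A] c := Submodule.inclusion hle
  let g : c →ₗ[A] 𝔞 := (LinearMap.lsmul A A (a ^ n)).restrict (fun x hx => hx)
  have hi : Function.Injective (i.rTensor M) :=
    key n i (Submodule.inclusion_injective _) fun x => ⟨⟨a ^ n • (x : A), x.2⟩, rfl⟩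
  apply hi
  rw [map_zero]
  have hg : Function.Injective ((LinearMap.range g).subtype.rTensor M) :=
    key n _ (Submodule.subtype_injective _) fun x => ⟨⟨a ^ n • x, ⟨i x, rfl⟩⟩, rfl⟩
  have h1 : g.rangeRestrict.rTensor M (i.rTensor M k) = 0 := by
    apply hg
    rw [map_zero, ← LinearMap.comp_apply (LinearMap.rTensor M (LinearMap.range g).subtype),
      ← LinearMap.rTensor_comp, ← LinearMap.comp_apply, ← LinearMap.rTensor_comp]
    have : ((LinearMap.range g).subtype ∘ₗ g.rangeRestrict) ∘ₗ i = a ^ n • LinearMap.id := rfl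
    rw [this, LinearMap.rTensor_smul, LinearMap.smul_apply, LinearMap.rTensor_id, LinearMap.id_apply,
      hn]
  have hexg : Function.Exact (LinearMap.ker g).subtype g.rangeRestrict := fun x =>
    ⟨fun hx => ⟨⟨x, LinearMap.mem_ker.mpr (congrArg Subtype.val hx)⟩, rfl⟩, by
      rintro ⟨y, rfl⟩; exact Subtype.ext (LinearMap.mem_ker.mp y.2)⟩
  obtain ⟨z, hz⟩ := (rTensor_exact (M := LinearMap.ker g) (N := c) (P := LinearMap.range g)
    (f := (LinearMap.ker g).subtype) (g := g.rangeRestrict) M hexg
    g.surjective_rangeRestrict _).mp h1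
  let j : LinearMap.ker g →ₗ[A] Z n :=
    (c.subtype.comp (LinearMap.ker g).subtype).codRestrict (Z n)
      (fun y => congrArg Subtype.val (LinearMap.mem_ker.mp y.2))
  have hj : Function.Bijective j := by
    constructor
    · intro x y hxy
      exact Subtype.ext (Subtype.ext (congrArg (fun t : Z n => (t : A)) hxy))
    · intro y
      have hy : a ^ n • (y : A) = 0 := LinearMap.mem_ker.mp y.2
      have hyc : (y : A) ∈ c := by
        show a ^ n • (y : A) ∈ 𝔞
        rw [hy]
        exact 𝔞.zero_mem
      exact ⟨⟨⟨y, hyc⟩, LinearMap.mem_ker.mpr (Subtype.ext hy)⟩, rfl⟩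
  have hjz : j.rTensor M z = 0 := by
    apply hZinj n
    rw [map_zero]
    have e1 : (Z n).subtype ∘ₗ j = c.subtype ∘ₗ (LinearMap.ker g).subtype := rfl
    have e2 : c.subtype ∘ₗ i = 𝔞.subtype := rfl
    rw [← LinearMap.comp_apply, ← LinearMap.rTensor_comp, e1, LinearMap.rTensor_comp,
      LinearMap.comp_apply, hz, ← LinearMap.comp_apply, ← LinearMap.rTensor_comp, e2, hk]
  have : z = 0 := ((LinearEquiv.ofBijective j hj).rTensor M).injective
    (hjz.trans (map_zero _).symm)
  rw [← hz, this, map_zero]

end Dense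

end Groth.Agent.Glue24
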