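import Groth.Prelude.Def_EtGlue
import Mathlib.RingTheory.Flat.Basic
import Mathlib.RingTheory.Flat.Stability
import Mathlib.LinearAlgebra.TensorProduct.RightExactness
import Mathlib.LinearAlgebra.TensorProduct.Pi
import Mathlib.LinearAlgebra.TensorProduct.Quotient
import Mathlib.RingTheory.Finiteness.Ideal
import Mathlib.Tactic.Abel
import Mathlib.Tactic.Ring

/-!
# Formal glueing along a flat map which is an isomorphism modulo a finitely generated ideal
-/

universe u

open TensorProduct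

namespace Groth.Agent.Glue24.Formal

variable {R S : Type u} [CommRing R] [CommRing S] [Algebra R S]

theorem bijective_mk_of_smul_eq_zero (I : Ideal R)
    (hq : Function.Bijective
      (Ideal.quotientMap (Ideal.map (algebraMap R S) I) (algebraMap R S) Ideal.le_comap_map))
    (Q : Type u) [AddCommGroup Q] [Module R Q] (hI : ∀ r ∈ I, ∀ q : Q, r • q = 0) :
    Function.Bijective (TensorProduct.mk R S Q 1) := by
  let e := AlgEquiv.ofBijective
    (Ideal.quotientMapₐ (I.map (algebraMap R S)) (Algebra.ofId R S) Ideal.le_comap_map) hq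
  let τ : S →ₗ[R] R ⧸ I :=
    e.symm.toLinearMap ∘ₗ (Ideal.Quotient.mkₐ R (I.map (algebraMap R S))).toLinearMap
  constructor
  · intro q q' h
    have hτ : τ 1 = 1 := by
      show e.symm (Ideal.Quotient.mkₐ R (I.map (algebraMap R S)) 1) = 1
      rw [map_one, map_one]
    have h' := congrArg (τ.rTensor Q) h
    simp only [TensorProduct.mk_apply, LinearMap.rTensor_tmul, hτ] at h'
    have h'' := congrArg (TensorProduct.quotTensorEquivQuotSMul Q I) h'
    rw [show (1 : R ⧸ I) = Ideal.Quotient.mk I 1 from rfl] at h''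
    rw [TensorProduct.quotTensorEquivQuotSMul_mk_tmul, TensorProduct.quotTensorEquivQuotSMul_mk_tmul,
      one_smul, one_smul, Submodule.Quotient.eq] at h''
    rw [← sub_eq_zero]
    refine Submodule.smul_induction_on h'' (fun r hr n _ => hI r hr n) ?_
    intro a b ha hb
    rw [ha, hb, add_zero]
  · intro z
    induction z using TensorProduct.induction_on with
    | zero => exact ⟨0, tmul_zero _ _⟩
    | tmul s q =>
      obtain ⟨r, hr⟩ := hq.2 (Ideal.Quotient.mk _ s)
      obtain ⟨r, rfl⟩ := Ideal.Quotient.mk_surjective r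
      rw [Ideal.quotientMap_mk, Ideal.Quotient.eq] at hr
      refine ⟨r • q, ?_⟩
      rw [TensorProduct.mk_apply, ← smul_tmul, ← Algebra.algebraMap_eq_smul_one, ← sub_eq_zero,
        ← sub_tmul]
      suffices ∀ d ∈ I.map (algebraMap R S), ∀ q : Q, d ⊗ₜ[R] q = 0 from this _ hr q
      intro d hd
      refine Submodule.span_induction (p := fun d _ => ∀ q : Q, d ⊗ₜ[R] q = 0) ?_ ?_ ?_ ?_ hd
      · rintro _ ⟨i, hi, rfl⟩ q
        rw [Algebra.algebraMap_eq_smul_one, smul_tmul, hI i hi, tmul_zero]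
      · exact fun q => zero_tmul _ q
      · intro a b _ _ ha hb q
        rw [add_tmul, ha, hb, add_zero]
      · intro c a _ ha q
        rw [← smul_tmul', ha, smul_zero]
    | add a b ha hb =>
      obtain ⟨⟨u, rfl⟩, ⟨v, rfl⟩⟩ := And.intro ha hb
      exact ⟨u + v, map_add _ _ _⟩

variable [Module.Flat R S]

theorem bijective_mk_of_pow_smul_eq_zero (I : Ideal R)
    (hq : Function.Bijective
      (Ideal.quotientMap (Ideal.map (algebraMap R S) I) (algebraMap R S) Ideal.le_comap_map))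
    (L : ℕ) : ∀ (Q : Type u) [AddCommGroup Q] [Module R Q],
      (∀ r ∈ I ^ L, ∀ q : Q, r • q = 0) → Function.Bijective (TensorProduct.mk R S Q 1) := by
  induction L with
  | zero =>
    intro Q _ _ hQ
    exact bijective_mk_of_smul_eq_zero I hq Q fun r _ q =>
      hQ r (by rw [pow_zero, Ideal.one_eq_top]; trivial) q
  | succ L ih =>
    intro Q _ _ hQ
    let N : Submodule R Q := I • ⊤
    have hN : ∀ r ∈ I ^ L, ∀ q : N, r • q = 0 := by
      rintro r hr ⟨q, hq'⟩
      apply Subtype.ext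
      show r • q = 0
      refine Submodule.smul_induction_on hq' (fun i hi n _ => ?_) fun a b ha hb => ?_
      · rw [smul_smul]
        exact hQ _ (by rw [pow_succ]; exact Ideal.mul_mem_mul hr hi) n
      · rw [smul_add, ha, hb, add_zero]
    have hN' : ∀ r ∈ I, ∀ q : Q ⧸ N, r • q = 0 := fun r hr q => by
      obtain ⟨q, rfl⟩ := N.mkQ_surjective q
      rw [← map_smul, Submodule.mkQ_apply, Submodule.Quotient.mk_eq_zero]
      exact Submodule.smul_mem_smul hr Submodule.mem_top
    have b1 := ih N hN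
    have b2 := bijective_mk_of_smul_eq_zero I hq (Q ⧸ N) hN'
    have hinj : Function.Injective (N.subtype.lTensor S) :=
      Module.Flat.lTensor_preserves_injective_linearMap _ N.subtype_injective
    have hex := lTensor_exact S (LinearMap.exact_subtype_mkQ N) N.mkQ_surjective
    constructor
    · rw [← LinearMap.ker_eq_bot, LinearMap.ker_eq_bot']
      intro q hqz
      change (1 : S) ⊗ₜ[R] q = 0 at hqz
      have : (1 : S) ⊗ₜ[R] N.mkQ q = 0 := by rw [← LinearMap.lTensor_tmul, hqz, map_zero]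
      have hq0 : N.mkQ q = 0 := b2.1 (this.trans (tmul_zero _ _).symm)
      rw [Submodule.mkQ_apply, Submodule.Quotient.mk_eq_zero] at hq0
      have : (1 : S) ⊗ₜ[R] (⟨q, hq0⟩ : N) = 0 := hinj (by
        rw [map_zero, LinearMap.lTensor_tmul]; exact hqz)
      exact congrArg Subtype.val (b1.1 (this.trans (tmul_zero _ _).symm))
    · intro z
      obtain ⟨q', hq'⟩ := b2.2 (N.mkQ.lTensor S z)
      obtain ⟨q, rfl⟩ := N.mkQ_surjective q'
      change (1 : S) ⊗ₜ[R] N.mkQ q = _ at hq'
      obtain ⟨w, hw⟩ := (hex (z - (1 : S) ⊗ₜ[R] q)).mp (by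
        rw [map_sub, LinearMap.lTensor_tmul, hq', sub_self])
      obtain ⟨n, rfl⟩ := b1.2 w
      refine ⟨q + n, ?_⟩
      rw [map_add]
      change (1 : S) ⊗ₜ[R] q + (1 : S) ⊗ₜ[R] (n : Q) = z
      rw [TensorProduct.mk_apply, LinearMap.lTensor_tmul, Submodule.subtype_apply] at hw
      rw [hw]
      abel

/-- Torsion elements for a finitely generated ideal descend. -/
theorem exists_torsion_lift (I : Ideal R) (hI : I.FG)
    (hq : Function.Bijective
      (Ideal.quotientMap (Ideal.map (algebraMap R S) I) (algebraMap R S) Ideal.le_comap_map))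
    (L : ℕ) {E : Type u} [AddCommGroup E] [Module R E] (z : S ⊗[R] E)
    (hz : ∀ r ∈ I ^ L, r • z = 0) : ∃ t : E, (∀ r ∈ I ^ L, r • t = 0) ∧ (1 : S) ⊗ₜ[R] t = z := by
  classical
  obtain ⟨s, hs⟩ := Ideal.FG.pow (n := L) hI
  let δ : E →ₗ[R] (s → E) := LinearMap.pi fun r => LinearMap.lsmul R E r.1
  have hK : ∀ r ∈ I ^ L, ∀ q : LinearMap.ker δ, r • q = 0 := by
    intro r hr q
    rw [← hs] at hr
    refine Submodule.span_induction (p := fun r _ => r • q = 0) ?_ (zero_smul _ _) ?_ ?_ hr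
    · intro r hr
      exact Subtype.ext (congrFun (LinearMap.mem_ker.mp q.2) ⟨r, hr⟩)
    · intro a b _ _ ha hb; rw [add_smul, ha, hb, add_zero]
    · intro c a _ ha; rw [smul_assoc, ha, smul_zero]
  have hz' : δ.lTensor S z = 0 := by
    apply (TensorProduct.piRight R R S (fun _ : s => E)).injective
    rw [map_zero]
    funext r
    rw [Pi.zero_apply, ← hz r.1 (by rw [← hs]; exact Submodule.subset_span r.2)]
    clear hz
    induction z using TensorProduct.induction_on with
    | zero => simp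
    | tmul a b => simp [δ, tmul_smul]
    | add a b ha hb => simp only [map_add, Pi.add_apply, ha, hb, smul_add]
  obtain ⟨w, hw⟩ := (Module.Flat.lTensor_exact S (LinearMap.exact_subtype_ker_map δ) z).mp hz'
  obtain ⟨t, rfl⟩ := (bijective_mk_of_pow_smul_eq_zero I hq L _ hK).2 w
  exact ⟨t.1, fun r hr => congrArg Subtype.val (hK r hr t), by simpa using hw⟩

variable {t : ℕ} {f : Fin t → R} {I : Ideal R}

theorem eq_zero_of (hI : Ideal.span (Set.range f) = I)
    (hq : Function.Bijective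
      (Ideal.quotientMap (Ideal.map (algebraMap R S) I) (algebraMap R S) Ideal.le_comap_map))
    {M : Type u} [AddCommGroup M] [Module R M] (m : M) (h : (1 : S) ⊗ₜ[R] m = 0)
    (hloc : ∀ i, LocalizedModule.mkLinearMap (Submonoid.powers (f i)) M m = 0) : m = 0 := by
  let ann := LinearMap.ker (LinearMap.toSpanSingleton R M m)
  have hfg : I.FG := hI ▸ Submodule.fg_span (Set.finite_range f)
  obtain ⟨L, hL⟩ : ∃ L : ℕ, I ^ L ≤ ann := by
    refine Ideal.exists_pow_le_of_le_radical_of_fg ?_ hfg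
    rw [← hI, Ideal.span_le]
    rintro _ ⟨i, rfl⟩
    obtain ⟨⟨_, n, rfl⟩, hn⟩ := (IsLocalizedModule.eq_zero_iff (Submonoid.powers (f i))
      (LocalizedModule.mkLinearMap (Submonoid.powers (f i)) M)).mp (hloc i)
    exact ⟨n, hn⟩
  let N : Submodule R M :=
    { carrier := {m | ∀ r ∈ I ^ L, r • m = 0}
      add_mem' := fun ha hb r hr => by rw [smul_add, ha r hr, hb r hr, add_zero]
      zero_mem' := fun r _ => smul_zero r
      smul_mem' := fun c x hx r hr => by rw [smul_comm, hx r hr, smul_zero] }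
  have hm : m ∈ N := fun r hr => hL hr
  have hb := bijective_mk_of_pow_smul_eq_zero I hq L N
    (fun r hr q => Subtype.ext (q.2 r hr))
  have : (1 : S) ⊗ₜ[R] (⟨m, hm⟩ : N) = 0 :=
    Module.Flat.lTensor_preserves_injective_linearMap (M := S) N.subtype N.subtype_injective
      (by rw [LinearMap.lTensor_tmul, map_zero]; exact h)
  exact congrArg Subtype.val (hb.1 (this.trans (tmul_zero _ _).symm))

theorem exists_of (hI : Ideal.span (Set.range f) = I)
    (hq : Function.Bijective
      (Ideal.quotientMap (Ideal.map (algebraMap R S) I) (algebraMap R S) Ideal.le_comap_map))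
    {M : Type u} [AddCommGroup M] [Module R M] (x : S ⊗[R] M) (N : ℕ) (m : Fin t → M)
    (hx : ∀ i : Fin t, EtGlue.locOfTensor R S (f i) M x =
        EtGlue.tensorOfLoc R S (f i) M
          (LocalizedModule.mk (m i) ⟨f i ^ N, Submonoid.pow_mem _ (Submonoid.mem_powers (f i)) N⟩))
    (hm : ∀ i j : Fin t, ∃ e : ℕ, (f i * f j) ^ e • (f j ^ N • m i - f i ^ N • m j) = 0) :
    ∃ μ : M, (1 : S) ⊗ₜ[R] μ = x ∧ ∀ i : Fin t,
      LocalizedModule.mkLinearMap (Submonoid.powers (f i)) M μ =
        LocalizedModule.mk (m i) ⟨f i ^ N, Submonoid.pow_mem _ (Submonoid.mem_powers (f i)) N⟩ := by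
  classical
  have hfg : I.FG := hI ▸ Submodule.fg_span (Set.finite_range f)
  let b : ∀ i, LocalizedModule (Submonoid.powers (f i)) M := fun i =>
    LocalizedModule.mk (m i) ⟨f i ^ N, Submonoid.pow_mem _ (Submonoid.mem_powers (f i)) N⟩
  let loc : ∀ i, M →ₗ[R] LocalizedModule (Submonoid.powers (f i)) M := fun i =>
    LocalizedModule.mkLinearMap (Submonoid.powers (f i)) M
  have hb : ∀ i, f i ^ N • b i = loc i (m i) := fun i => by
    show f i ^ N • LocalizedModule.mk (m i) _ = LocalizedModule.mk (m i) 1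
    rw [LocalizedModule.smul'_mk]
    exact LocalizedModule.mk_cancel (⟨f i ^ N, Submonoid.pow_mem _ (Submonoid.mem_powers (f i)) N⟩ :
      Submonoid.powers (f i)) (m i)
  have hcancel : ∀ i (n : ℕ) (u v : LocalizedModule (Submonoid.powers (f i)) M),
      f i ^ n • u = f i ^ n • v → u = v := fun i n u v h =>
    ((Module.End.isUnit_iff _).mp (IsLocalizedModule.map_units (loc i)
      (⟨f i ^ n, Submonoid.pow_mem _ (Submonoid.mem_powers (f i)) n⟩ : Submonoid.powers (f i)))).1 h
  let 𝔞 : Ideal R :=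
    { carrier := {r | ∃ μ : M, (1 : S) ⊗ₜ[R] μ = r • x ∧ ∀ i, loc i μ = r • b i}
      add_mem' := by
        rintro r r' ⟨u, hu, hu'⟩ ⟨v, hv, hv'⟩
        exact ⟨u + v, by rw [tmul_add, hu, hv, add_smul], fun i => by
          rw [map_add, hu', hv', add_smul]⟩
      zero_mem' := ⟨0, by rw [tmul_zero, zero_smul], fun i => by rw [map_zero, zero_smul]⟩
      smul_mem' := by
        rintro c r ⟨u, hu, hu'⟩
        exact ⟨c • u, by rw [tmul_smul, hu, smul_smul, smul_eq_mul], fun i => by
          rw [map_smul, hu', smul_smul, smul_eq_mul]⟩ }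
  obtain ⟨L, hL⟩ : ∃ L : ℕ, I ^ L ≤ 𝔞 := by
    refine Ideal.exists_pow_le_of_le_radical_of_fg ?_ hfg
    rw [← hI, Ideal.span_le]
    rintro _ ⟨k, rfl⟩
    have h1 : loc k = loc k := rfl
    have hxk : LocalizedModule.mkLinearMap (Submonoid.powers (f k)) (S ⊗[R] M) (f k ^ N • x) =
        LocalizedModule.mkLinearMap (Submonoid.powers (f k)) (S ⊗[R] M) ((1 : S) ⊗ₜ[R] m k) := by
      rw [map_smul]
      show f k ^ N • EtGlue.locOfTensor R S (f k) M x = _
      rw [hx k, ← map_smul, hb k]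
      exact IsLocalizedModule.map_apply _ _ _ _ _
    obtain ⟨⟨_, c, rfl⟩, hc⟩ :=
      (IsLocalizedModule.eq_iff_exists (Submonoid.powers (f k)) _).mp hxk
    change f k ^ c • f k ^ N • x = f k ^ c • ((1 : S) ⊗ₜ[R] m k) at hc
    choose e he using fun i => hm i k
    obtain ⟨E, hE, hEc⟩ : ∃ E : ℕ, (∀ i, e i ≤ E) ∧ c ≤ E :=
      ⟨(∑ i, e i) + c, fun i => (Finset.single_le_sum (fun j _ => Nat.zero_le (e j))
        (Finset.mem_univ i)).trans (Nat.le_add_right _ _), Nat.le_add_left _ _⟩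
    refine ⟨N + E, f k ^ E • m k, ?_, fun i => ?_⟩
    · obtain ⟨d, rfl⟩ := Nat.exists_eq_add_of_le hEc
      rw [tmul_smul, show f k ^ (c + d) = f k ^ d * f k ^ c by ring,
        show f k ^ (N + (c + d)) = f k ^ d * (f k ^ c * f k ^ N) by ring,
        mul_smul (f k ^ d), mul_smul (f k ^ d), mul_smul (f k ^ c), ← hc]
    · apply hcancel i N
      rw [← map_smul, smul_comm (f i ^ N) (f k ^ (N + E)) (b i), hb, ← map_smul]
      refine (IsLocalizedModule.eq_iff_exists (Submonoid.powers (f i)) _).mpr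
        ⟨⟨f i ^ e i, e i, rfl⟩, ?_⟩
      obtain ⟨d, hd⟩ := Nat.exists_eq_add_of_le (hE i)
      have := congrArg (f k ^ d • ·) (he i)
      simp only [smul_sub, smul_zero, smul_smul, sub_eq_zero] at this
      change f i ^ e i • f i ^ N • f k ^ E • m k = f i ^ e i • f k ^ (N + E) • m i
      rw [smul_smul, smul_smul, smul_smul, eq_comm, hd]
      convert this using 2 <;> ring
  let J := I ^ L
  have hν : ∀ j : J, ∃ μ : M, (1 : S) ⊗ₜ[R] μ = (j : R) • x ∧ ∀ i, loc i μ = (j : R) • b i :=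
    fun j => hL j.2
  choose ν hν1 hν2 using hν
  have huniq : ∀ u v : M, (1 : S) ⊗ₜ[R] u = (1 : S) ⊗ₜ[R] v → (∀ i, loc i u = loc i v) → u = v :=
    fun u v h1 h2 => sub_eq_zero.mp (eq_zero_of hI hq _ (by rw [tmul_sub, h1, sub_self])
      fun i => by rw [map_sub, h2, sub_self])
  let G : J →ₗ[R] R × M :=
    { toFun := fun j => ((j : R), -ν j)
      map_add' := fun j j' => Prod.ext rfl (by
        show -ν (j + j') = -ν j + -ν j'
        rw [← neg_add, neg_inj]
        refine huniq _ _ ?_ fun i => ?_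
        · rw [hν1, tmul_add, hν1, hν1, Submodule.coe_add, add_smul]
        · rw [hν2, map_add, hν2, hν2, Submodule.coe_add, add_smul])
      map_smul' := fun c j => Prod.ext rfl (by
        show -ν (c • j) = c • -ν j
        rw [smul_neg, neg_inj]
        refine huniq _ _ ?_ fun i => ?_
        · rw [hν1, tmul_smul, hν1, SetLike.val_smul, smul_assoc]
        · rw [hν2, map_smul, hν2, SetLike.val_smul, smul_assoc]) }
  let π := (LinearMap.range G).mkQ
  let ι : M →ₗ[R] (R × M) ⧸ LinearMap.range G := π ∘ₗ LinearMap.inr R R M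
  let ρ : (R × M) ⧸ LinearMap.range G →ₗ[R] R ⧸ J :=
    (LinearMap.range G).liftQ (Submodule.mkQ J ∘ₗ LinearMap.fst R R M) (by
      rintro _ ⟨j, rfl⟩
      exact (Submodule.Quotient.mk_eq_zero J).mpr j.2)
  have hι : Function.Injective ι := by
    rw [← LinearMap.ker_eq_bot, LinearMap.ker_eq_bot']
    intro u hu
    obtain ⟨j, hj⟩ := (Submodule.Quotient.mk_eq_zero _).mp hu
    have h1 : (j : R) = 0 := congrArg Prod.fst hj
    have : j = 0 := Subtype.ext h1
    rw [this, map_zero] at hj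
    exact (congrArg Prod.snd hj).symm
  let e₀ := π (1, 0)
  have hje : ∀ j : J, (j : R) • e₀ = ι (ν j) := by
    intro j
    rw [← map_smul, ← sub_eq_zero]
    show π _ - π _ = 0
    rw [← map_sub, Submodule.mkQ_apply, Submodule.Quotient.mk_eq_zero]
    exact ⟨j, by simp [G]⟩
  obtain ⟨t', ht1, ht2⟩ := exists_torsion_lift I hfg hq L
    ((1 : S) ⊗ₜ[R] e₀ - ι.lTensor S x) (fun r hr => by
      rw [smul_sub, ← tmul_smul, hje ⟨r, hr⟩, ← map_smul, ← hν1 ⟨r, hr⟩, LinearMap.lTensor_tmul,
        sub_self])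
  have hJ : Function.Bijective (TensorProduct.mk R S (R ⧸ J) 1) :=
    bijective_mk_of_pow_smul_eq_zero I hq L _ (fun r hr q => by
      obtain ⟨q, rfl⟩ := Submodule.mkQ_surjective J q
      rw [← map_smul, Submodule.mkQ_apply, Submodule.Quotient.mk_eq_zero, smul_eq_mul]
      exact Ideal.mul_mem_right q _ hr)
  have hρ : ρ t' = ρ e₀ := by
    apply hJ.1
    show (1 : S) ⊗ₜ[R] ρ t' = (1 : S) ⊗ₜ[R] ρ e₀
    rw [← LinearMap.lTensor_tmul, ht2, map_sub, LinearMap.lTensor_tmul,
      ← LinearMap.lTensor_comp_apply]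
    have : ρ ∘ₗ ι = 0 := LinearMap.ext fun u =>
      (show Submodule.mkQ J 0 = 0 from map_zero _)
    rw [this, LinearMap.lTensor_zero, LinearMap.zero_apply, sub_zero]
  obtain ⟨⟨r, u⟩, hru⟩ := (LinearMap.range G).mkQ_surjective (e₀ - t')
  have hr : r ∈ J := by
    have : ρ (π (r, u)) = 0 := by rw [hru, map_sub, hρ, sub_self]
    exact (Submodule.Quotient.mk_eq_zero J).mp this
  have hμ : ι (u + ν ⟨r, hr⟩) = e₀ - t' := by
    rw [← hru, ← sub_eq_zero]
    show π _ - π _ = 0
    rw [← map_sub, Submodule.mkQ_apply, Submodule.Quotient.mk_eq_zero]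
    exact ⟨-⟨r, hr⟩, by
      rw [map_neg]
      exact Prod.ext (by simp [G]) (by simp [G])⟩
  refine ⟨u + ν ⟨r, hr⟩, ?_, fun i => ?_⟩
  · apply Module.Flat.lTensor_preserves_injective_linearMap (M := S) ι hι
    rw [LinearMap.lTensor_tmul, hμ, tmul_sub, ht2]
    abel
  · have hfi : f i ^ L ∈ J := Ideal.pow_mem_pow (hI ▸ Ideal.subset_span ⟨i, rfl⟩) L
    have h2 : f i ^ L • (u + ν ⟨r, hr⟩) = ν ⟨f i ^ L, hfi⟩ := hι (by
      rw [map_smul, hμ, smul_sub, hje ⟨_, hfi⟩, ht1 _ hfi, sub_zero])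
    apply hcancel i L
    show f i ^ L • loc i (u + ν ⟨r, hr⟩) = f i ^ L • b i
    rw [← map_smul, h2, hν2]

end Groth.Agent.Glue24.Formal
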