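import Groth.Agent.Glue24.Pair
import Mathlib.Algebra.Algebra.Equiv
import Mathlib.RingTheory.Localization.Module

/-!
# Glueing algebras along a glueing pair
-/

universe u

open TensorProduct

namespace Groth.Agent.Glue24

variable {R R' : Type u} [CommRing R] [CommRing R'] [Algebra R R'] {f : R}

theorem exists_glued_algebra (hRR' : EtGlue.IsGlueingPair R R' f)
    (A₁ : Type u) [CommRing A₁] [Algebra R A₁] (h₁ : IsUnit (algebraMap R A₁ f))
    (A' : Type u) [CommRing A'] [Algebra R A'] [Algebra R' A'] [IsScalarTower R R' A']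
    (φ : Localization.Away (algebraMap R A' f) ≃ₐ[R'] R' ⊗[R] A₁) :
    ∃ (A : Type u) (_ : CommRing A) (_ : Algebra R A) (_ : EtGlue.IsGlueable R R' f A)
      (e₁ : Localization.Away (algebraMap R A f) ≃ₐ[R] A₁) (e' : R' ⊗[R] A ≃ₐ[R'] A'),
      ∀ a : A, φ (algebraMap A' (Localization.Away (algebraMap R A' f)) (e' ((1 : R') ⊗ₜ[R] a))) =
        (1 : R') ⊗ₜ[R] e₁ (algebraMap A (Localization.Away (algebraMap R A f)) a) := by
  let L := Localization.Away (algebraMap R A' f)
  let j : A' →ₐ[R'] R' ⊗[R] A₁ := φ.toAlgHom.comp (IsScalarTower.toAlgHom R' A' L)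
  let M : Subalgebra R (A' × A₁) :=
    AlgHom.equalizer ((j.restrictScalars R).comp (AlgHom.fst R A' A₁))
      ((Algebra.TensorProduct.includeRight : A₁ →ₐ[R] R' ⊗[R] A₁).comp (AlgHom.snd R A' A₁))
  let p : M →ₐ[R] A' := (AlgHom.fst R A' A₁).comp M.val
  let q : M →ₐ[R] A₁ := (AlgHom.snd R A' A₁).comp M.val
  have hpq : ∀ m : M, j (p m) = (1 : R') ⊗ₜ[R] q m := fun m => m.2
  have hext : ∀ {m m' : M}, p m = p m' → q m = q m' → m = m' := fun h h' =>
    Subtype.ext (Prod.ext h h')
  have hmk : ∀ (x : A') (y : A₁), j x = (1 : R') ⊗ₜ[R] y → ∃ m : M, p m = x ∧ q m = y :=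
    fun x y h => ⟨⟨(x, y), h⟩, rfl, rfl⟩
  have hu : ∀ n : ℕ, IsUnit (algebraMap R A₁ (f ^ n)) := fun n => by
    rw [map_pow]; exact h₁.pow n
  have hcancel : ∀ (n : ℕ) (z z' : R' ⊗[R] A₁), f ^ n • z = f ^ n • z' → z = z' := by
    intro n z z' h
    obtain ⟨v, hv⟩ := (hu n).exists_left_inv
    have key : ∀ w : R' ⊗[R] A₁, ((1 : R') ⊗ₜ[R] v) * (f ^ n • w) = w := fun w => by
      rw [Algebra.smul_def, IsScalarTower.algebraMap_apply R R' (R' ⊗[R] A₁), ← mul_assoc,
        Algebra.TensorProduct.algebraMap_apply, Algebra.TensorProduct.tmul_mul_tmul, one_mul,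
        mul_one, Algebra.algebraMap_self, RingHom.id_apply, Algebra.algebraMap_eq_smul_one,
        smul_tmul, Algebra.smul_def, mul_comm _ v, hv, ← Algebra.TensorProduct.one_def, one_mul]
    rw [← key z, h, key]
  have hsmulA₁ : ∀ (n : ℕ) (y y' : A₁), f ^ n • y = f ^ n • y' → y = y' := fun n y y' h => by
    rw [Algebra.smul_def, Algebra.smul_def] at h
    exact (hu n).mul_left_cancel h
  have hker : ∀ x x' : A', j x = j x' → ∃ n : ℕ, f ^ n • x = f ^ n • x' := by
    intro x x' h
    obtain ⟨⟨_, n, rfl⟩, hn⟩ := IsLocalization.exists_of_eq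
      (M := Submonoid.powers (algebraMap R A' f)) (S := L) (φ.injective h)
    exact ⟨n, by simpa [Algebra.smul_def] using hn⟩
  have hsurj : ∀ z : R' ⊗[R] A₁, ∃ (n : ℕ) (x : A'), j x = f ^ n • z := by
    intro z
    obtain ⟨⟨x, ⟨_, n, rfl⟩⟩, hx⟩ :=
      IsLocalization.surj (Submonoid.powers (algebraMap R A' f)) (φ.symm z)
    refine ⟨n, x, ?_⟩
    have := congrArg φ hx
    simp only [map_mul, AlgEquiv.apply_symm_apply, map_pow] at this
    show φ (algebraMap A' L x) = _
    rw [← this, mul_comm, ← IsScalarTower.algebraMap_apply R A' L]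
    rw [show φ (algebraMap R L f) = algebraMap R (R' ⊗[R] A₁) f from
      (φ.toAlgHom.restrictScalars R).commutes f, Algebra.smul_def, map_pow]
  letI : Algebra M A₁ := q.toRingHom.toAlgebra
  haveI : IsScalarTower R M A₁ := IsScalarTower.of_algebraMap_eq fun r => (q.commutes r).symm
  haveI hloc : IsLocalization.Away (algebraMap R M f) A₁ := by
    refine IsLocalization.Away.mk _ ?_ ?_ ?_
    · rw [← IsScalarTower.algebraMap_apply]; exact h₁
    · intro y
      obtain ⟨n, x, hx⟩ := hsurj ((1 : R') ⊗ₜ[R] y)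
      obtain ⟨m, hm, hm'⟩ := hmk x (f ^ n • y) (by rw [hx, tmul_smul])
      refine ⟨n, m, ?_⟩
      show y * algebraMap M A₁ (algebraMap R M f) ^ n = q m
      rw [← IsScalarTower.algebraMap_apply, hm', Algebra.smul_def, map_pow, mul_comm]
    · intro m m' h
      change q m = q m' at h
      obtain ⟨n, hn⟩ := hker (p m) (p m') (by rw [hpq, hpq, h])
      refine ⟨n, hext ?_ ?_⟩
      · rw [← map_pow, ← Algebra.smul_def, ← Algebra.smul_def, map_smul, map_smul, hn]
      · rw [← map_pow, ← Algebra.smul_def, ← Algebra.smul_def, map_smul, map_smul, h]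
  haveI : IsLocalization (Algebra.algebraMapSubmonoid M (Submonoid.powers f)) A₁ := by
    rw [Algebra.algebraMapSubmonoid, Submonoid.map_powers]
    exact hloc
  haveI : IsLocalizedModule (Submonoid.powers f) (IsScalarTower.toAlgHom R M A₁).toLinearMap :=
    isLocalizedModule_iff_isLocalization.mpr inferInstance
  have hd := dense_of_quotPowBijective hRR'.1
  have hflip := IsLocalizedModule.rTensor (R := R) (A := R) (S := Submonoid.powers f) (N := R')
    (IsScalarTower.toAlgHom R M A₁).toLinearMap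
  let π : R' ⊗[R] M →ₐ[R'] A' := Algebra.TensorProduct.lift (Algebra.ofId R' A') p
    (fun _ _ => Commute.all _ _)
  have hπ1 : ∀ m : M, π ((1 : R') ⊗ₜ[R] m) = p m := fun m => by simp [π]
  have hπmk : ∀ t : R' ⊗[R] M, j (π t) = q.toLinearMap.lTensor R' t := by
    intro t
    induction t using TensorProduct.induction_on with
    | zero => simp
    | tmul x m =>
      rw [LinearMap.lTensor_tmul]
      conv_lhs => rw [show x ⊗ₜ[R] m = x • ((1 : R') ⊗ₜ[R] m) by
        rw [smul_tmul', smul_eq_mul, mul_one]]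
      rw [map_smul, map_smul, hπ1, hpq, smul_tmul', smul_eq_mul, mul_one]
      rfl
    | add a b ha hb => simp only [map_add, ha, hb]
  have hcomm : ∀ t : R' ⊗[R] M, TensorProduct.comm R R' A₁ (q.toLinearMap.lTensor R' t) =
      AlgebraTensorModule.rTensor R R' (IsScalarTower.toAlgHom R M A₁).toLinearMap
        (TensorProduct.comm R R' M t) := by
    intro t
    induction t using TensorProduct.induction_on with
    | zero => simp
    | tmul x m => rfl
    | add a b ha hb => simp only [map_add, ha, hb]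
  have hπinj : Function.Injective π := by
    rw [injective_iff_map_eq_zero]
    intro t ht
    have h0 : q.toLinearMap.lTensor R' t = 0 := by rw [← hπmk, ht, map_zero]
    have h1 := hcomm t
    rw [h0, map_zero, eq_comm,
      ← (AlgebraTensorModule.rTensor R R' (IsScalarTower.toAlgHom R M A₁).toLinearMap).map_zero] at h1
    obtain ⟨⟨_, n, rfl⟩, hn⟩ := hflip.exists_of_eq h1
    have hn' : f ^ n • t = 0 := by
      apply (TensorProduct.comm R R' M).injective
      rw [map_smul, map_zero]
      exact hn.trans (smul_zero _)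
    obtain ⟨m, hm, rfl⟩ := hd.exists_torsion_lift (Pair.torsion_lift hRR') n t hn'
    have : m = 0 := hext (by rw [map_zero, ← hπ1, ht])
      (hsmulA₁ n _ _ (by rw [← map_smul, hm, map_zero, smul_zero]))
    rw [this, tmul_zero]
  have hπsurj : Function.Surjective π := by
    intro x
    obtain ⟨⟨t₀, ⟨_, N, rfl⟩⟩, ht₀⟩ := hflip.surj (TensorProduct.comm R R' A₁ (j x))
    obtain ⟨t₁, rfl⟩ := (TensorProduct.comm R R' M).surjective t₀
    have h2 : f ^ N • j x = j (π t₁) := by
      rw [hπmk]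
      apply (TensorProduct.comm R R' A₁).injective
      rw [map_smul, hcomm]
      exact ht₀
    obtain ⟨k, hk⟩ := hker (f ^ N • x) (π t₁) (by
      rw [← h2]; exact (j.restrictScalars R).toLinearMap.map_smul _ x)
    obtain ⟨τ, hτ, hτ'⟩ := hmk (f ^ N • x - π t₁) 0 (by
      apply hcancel k
      rw [tmul_zero, smul_zero, map_sub, smul_sub, sub_eq_zero]
      have e1 : ∀ y, f ^ k • j y = j (f ^ k • y) := fun y =>
        ((j.restrictScalars R).toLinearMap.map_smul _ y).symm
      rw [e1, e1, hk])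
    have h3 : f ^ N • x = π (t₁ + (1 : R') ⊗ₜ[R] τ) := by rw [map_add, hπ1, hτ]; abel
    obtain ⟨m, w, hw⟩ := hd.exists_add_smul_tensor M N (t₁ + (1 : R') ⊗ₜ[R] τ)
    rw [hw, map_add, hπ1, ← AlgHom.restrictScalars_apply R π, map_smul] at h3
    have h4 : f ^ N • (x - π w) = p m := by
      rw [smul_sub, h3, AlgHom.restrictScalars_apply]; abel
    obtain ⟨y, hy⟩ : ∃ y : A₁, f ^ N • y = q m := by
      obtain ⟨v, hv⟩ := (hu N).exists_right_inv
      exact ⟨v * q m, by rw [Algebra.smul_def, ← mul_assoc, hv, one_mul]⟩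
    obtain ⟨μ, hμ, -⟩ := hmk (x - π w) y (by
      apply hcancel N
      rw [← AlgHom.restrictScalars_apply R j, ← map_smul, h4, AlgHom.restrictScalars_apply, hpq,
        ← tmul_smul, hy])
    exact ⟨(1 : R') ⊗ₜ[R] μ + w, by rw [map_add, hπ1, hμ]; abel⟩
  have hglue : EtGlue.IsGlueable R R' f M := by
    refine ⟨?_, ?_⟩
    · intro m m' h
      simp only [Prod.mk.injEq] at h
      obtain ⟨⟨_, n, rfl⟩, hn⟩ := (IsLocalizedModule.eq_iff_exists (Submonoid.powers f) _).mp h.2
      refine hext (by rw [← hπ1, h.1, hπ1]) (hsmulA₁ n _ _ ?_)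
      rw [← map_smul, ← map_smul]
      exact congrArg q hn
    · intro x y hxy
      obtain ⟨⟨m₀, ⟨_, n, rfl⟩⟩, rfl⟩ := IsLocalizedModule.mk'_surjective (Submonoid.powers f)
        (LocalizedModule.mkLinearMap (Submonoid.powers f) M) y
      rw [Function.uncurry_apply_pair] at hxy ⊢
      have hxy' : LocalizedModule.mkLinearMap (Submonoid.powers f) (R' ⊗[R] M) (f ^ n • x) =
          LocalizedModule.mkLinearMap (Submonoid.powers f) (R' ⊗[R] M) ((1 : R') ⊗ₜ[R] m₀) := by
        rw [map_smul]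
        show f ^ n • EtGlue.locOfTensor R R' f M x = _
        rw [hxy, ← map_smul]
        rw [show f ^ n • IsLocalizedModule.mk' (LocalizedModule.mkLinearMap (Submonoid.powers f) M)
            m₀ (⟨(fun x => f ^ x) n, n, rfl⟩ : Submonoid.powers f) = LocalizedModule.mkLinearMap (Submonoid.powers f) M m₀
          from IsLocalizedModule.mk'_cancel' _ m₀ (⟨f ^ n, n, rfl⟩ : Submonoid.powers f)]
        exact IsLocalizedModule.map_apply _ _ _ _ _
      obtain ⟨⟨_, k, rfl⟩, hk⟩ := (IsLocalizedModule.eq_iff_exists (Submonoid.powers f) _).mp hxy'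
      change f ^ k • f ^ n • x = f ^ k • ((1 : R') ⊗ₜ[R] m₀) at hk
      have hk' := congrArg (π.restrictScalars R) hk
      simp only [map_smul, AlgHom.restrictScalars_apply, hπ1] at hk'
      obtain ⟨a₁, ha₁⟩ : ∃ a : A₁, f ^ n • a = q m₀ := by
        obtain ⟨v, hv⟩ := (hu n).exists_right_inv
        exact ⟨v * q m₀, by rw [Algebra.smul_def, ← mul_assoc, hv, one_mul]⟩
      obtain ⟨m, hm, hm'⟩ := hmk (π x) a₁ (by
        apply hcancel (k + n)
        rw [← AlgHom.restrictScalars_apply R j, ← map_smul, pow_add, mul_smul, hk', map_smul,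
          AlgHom.restrictScalars_apply, hpq, ← tmul_smul, ← tmul_smul, ← ha₁, smul_smul])
      refine ⟨m, hπinj (by rw [hπ1, hm]), ?_⟩
      rw [eq_comm, IsLocalizedModule.mk'_eq_iff]
      refine (IsLocalizedModule.eq_iff_exists (Submonoid.powers f)
        (LocalizedModule.mkLinearMap (Submonoid.powers f) M)).mpr ⟨⟨_, k, rfl⟩, ?_⟩ |>.trans
        ((LocalizedModule.mkLinearMap (Submonoid.powers f) M).map_smul (f ^ n) m)
      show f ^ k • m₀ = f ^ k • (f ^ n • m)
      refine hext ?_ ?_
      · rw [map_smul, map_smul, map_smul, hm, hk']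
      · rw [map_smul, map_smul, map_smul, hm', ha₁]
  refine ⟨M, inferInstance, inferInstance, hglue,
    (IsLocalization.algEquiv (Submonoid.powers (algebraMap R M f))
      (Localization.Away (algebraMap R M f)) A₁).restrictScalars R,
    AlgEquiv.ofBijective π ⟨hπinj, hπsurj⟩, fun a => ?_⟩
  show φ (algebraMap A' L (π ((1 : R') ⊗ₜ[R] a))) = _
  rw [hπ1]
  simp only [AlgEquiv.restrictScalars_apply, AlgEquiv.commutes]
  exact hpq a

end Groth.Agent.Glue24
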