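import Groth.Agent.Glue24.Milnor
import Groth.Agent.TorMod7.Basic
import Mathlib.LinearAlgebra.TensorProduct.Prod

/-!
# The unit of glueing modules over a fibre square, via `Tor`
-/

universe u

open CategoryTheory Limits MonoidalCategory TensorProduct

namespace Groth.Agent.Glue24.Milnor

variable {B' B A' A : Type u} [CommRing B'] [CommRing B] [CommRing A'] [CommRing A]
  [Algebra B' B] [Algebra B' A'] [Algebra B A] [Algebra A' A] [Algebra B' A]
  [IsScalarTower B' B A] [IsScalarTower B' A' A]

variable (B' B A') in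
/-- `B' → B × A'`. -/
def pairMap : B' →ₗ[B'] B × A' := (Algebra.linearMap B' B).prod (Algebra.linearMap B' A')

variable (B' B A' A) in
/-- `B × A' → A`, the difference map. -/
def diffMap : B × A' →ₗ[B'] A :=
  (IsScalarTower.toAlgHom B' B A).toLinearMap ∘ₗ LinearMap.fst B' B A' -
    (IsScalarTower.toAlgHom B' A' A).toLinearMap ∘ₗ LinearMap.snd B' B A'

/-- Left derived functors of additive functors are additive. -/
lemma leftDerived_additive {C : Type*} [Category C] [Abelian C] [HasProjectiveResolutions C]
    {D : Type*} [Category D] [Abelian D] (F : C ⥤ D) [F.Additive] (n : ℕ) :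
    (F.leftDerived n).Additive where
  map_add {X Y f g} := by
    let P := projectiveResolution X
    let Q := projectiveResolution Y
    have hf := ProjectiveResolution.lift_commutes f P Q
    have hg := ProjectiveResolution.lift_commutes g P Q
    have hfg : (ProjectiveResolution.lift f P Q + ProjectiveResolution.lift g P Q) ≫ Q.π =
        P.π ≫ (ChainComplex.single₀ C).map (f + g) := by
      rw [Preadditive.add_comp, hf, hg, Functor.map_add, Preadditive.comp_add]
    rw [F.leftDerived_map_eq n (f + g) _ hfg, F.leftDerived_map_eq n f _ hf,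
      F.leftDerived_map_eq n g _ hg]
    simp only [Functor.map_add, Preadditive.add_comp, Preadditive.comp_add]

theorem glueUnit_injective_iff_epi (hsq : EtMil.IsFibreSquare B' B A' A)
    (L' : Type u) [AddCommGroup L'] [Module B' L'] :
    (∀ l : L', ((1 : B) ⊗ₜ[B'] l : B ⊗[B'] L') = 0 → ((1 : A') ⊗ₜ[B'] l : A' ⊗[B'] L') = 0 → l = 0) ↔
    Epi (biprod.desc
      (((Tor (ModuleCat.{u} B') 1).obj (ModuleCat.of B' L')).map
        (ModuleCat.ofHom (IsScalarTower.toAlgHom B' B A).toLinearMap))
      (((Tor (ModuleCat.{u} B') 1).obj (ModuleCat.of B' L')).map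
        (ModuleCat.ofHom (IsScalarTower.toAlgHom B' A' A).toLinearMap))) := by
  have hz : (diffMap B' B A' A) ∘ₗ (pairMap B' B A') = 0 := by
    refine LinearMap.ext fun x => ?_
    show algebraMap B A (algebraMap B' B x) - algebraMap A' A (algebraMap B' A' x) = 0
    rw [← IsScalarTower.algebraMap_apply, ← IsScalarTower.algebraMap_apply, sub_self]
  let S : ShortComplex (ModuleCat.{u} B') :=
    ShortComplex.mk (ModuleCat.ofHom (pairMap B' B A')) (ModuleCat.ofHom (diffMap B' B A' A))
      (by ext : 1; exact hz)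
  have hS : S.ShortExact :=
    { exact := by
        rw [ShortComplex.moduleCat_exact_iff]
        rintro ⟨b, a⟩ hx
        obtain ⟨z, ⟨h1, h2⟩, -⟩ := hsq.2 b a (sub_eq_zero.mp hx)
        exact ⟨z, Prod.ext h1 h2⟩
      mono_f := by
        rw [ModuleCat.mono_iff_injective]
        intro x y h
        exact ext_of_images hsq (congrArg Prod.fst h) (congrArg Prod.snd h)
      epi_g := by
        rw [ModuleCat.epi_iff_surjective]
        intro z
        obtain ⟨a, ha⟩ := hsq.1 z
        exact ⟨((0 : B), -a), show algebraMap B A 0 - algebraMap A' A (-a) = z by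
          rw [map_zero, map_neg, zero_sub, neg_neg, ha]⟩ }
  let F := (tensoringLeft (ModuleCat.{u} B')).obj (ModuleCat.of B' L')
  let T := F.leftDerived 1
  have : T.Additive := leftDerived_additive F 1
  let SS : TorMod7.SES (ModuleCat.{u} B') := ⟨S, hS⟩
  have hT : ((Tor (ModuleCat.{u} B') 1).obj (ModuleCat.of B' L')) = T := rfl
  rw [hT]
  let inl : ModuleCat.of B' B ⟶ S.X₂ := ModuleCat.ofHom (LinearMap.inl B' B A')
  let inr : ModuleCat.of B' A' ⟶ S.X₂ := ModuleCat.ofHom (LinearMap.inr B' B A')
  let fst : S.X₂ ⟶ ModuleCat.of B' B := ModuleCat.ofHom (LinearMap.fst B' B A')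
  let snd : S.X₂ ⟶ ModuleCat.of B' A' := ModuleCat.ofHom (LinearMap.snd B' B A')
  let f₁ := ModuleCat.ofHom (IsScalarTower.toAlgHom B' B A).toLinearMap
  let f₂ := ModuleCat.ofHom (IsScalarTower.toAlgHom B' A' A).toLinearMap
  have hg : S.g = fst ≫ f₁ - snd ≫ f₂ := rfl
  have h1 : inl ≫ S.g = f₁ := by
    ext x
    show algebraMap B A x - algebraMap A' A 0 = algebraMap B A x
    rw [map_zero, sub_zero]
  have h2 : (-inr) ≫ S.g = f₂ := by
    ext x
    show algebraMap B A (-0) - algebraMap A' A (-x) = algebraMap A' A x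
    rw [neg_zero, map_zero, map_neg, zero_sub, neg_neg]
  have hepi : Epi (biprod.desc (T.map f₁) (T.map f₂)) ↔ Epi (T.map S.g) := by
    constructor
    · intro h
      have : biprod.desc (T.map inl) (T.map (-inr)) ≫ T.map S.g =
          biprod.desc (T.map f₁) (T.map f₂) := by
        apply biprod.hom_ext'
        · rw [biprod.inl_desc_assoc, biprod.inl_desc, ← T.map_comp, h1]
        · rw [biprod.inr_desc_assoc, biprod.inr_desc, ← T.map_comp, h2]
      rw [← this] at h
      exact epi_of_epi (biprod.desc (T.map inl) (T.map (-inr))) (T.map S.g)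
    · intro h
      have : biprod.lift (T.map fst) (-T.map snd) ≫ biprod.desc (T.map f₁) (T.map f₂) =
          T.map S.g := by
        rw [biprod.lift_desc, hg, T.map_sub, T.map_comp, T.map_comp, Preadditive.neg_comp,
          sub_eq_add_neg]
      rw [← this] at h
      exact epi_of_epi (biprod.lift (T.map fst) (-T.map snd)) (biprod.desc (T.map f₁) (T.map f₂))
  rw [hepi]
  have hmid : Epi (T.map S.g) ↔ Mono ((F.leftDerived 0).map S.f) :=
    (TorMod7.exact₃ F SS 0).epi_f_iff.trans (TorMod7.exact₁ F SS 0).mono_g_iff.symm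
  rw [hmid, TorMod7.mono_leftDerived_zero_iff (ModuleCat.of B' L') S.f]
  show _ ↔ Function.Injective ((pairMap B' B A').lTensor L')
  have key : ∀ l : L', TensorProduct.prodRight B' B' L' B A'
      ((pairMap B' B A').lTensor L' ((TensorProduct.rid B' L').symm l)) =
        (TensorProduct.comm B' B L' ((1 : B) ⊗ₜ l), TensorProduct.comm B' A' L' ((1 : A') ⊗ₜ l)) := by
    intro l
    simp [pairMap]
  constructor
  · intro h
    rw [← LinearMap.ker_eq_bot, LinearMap.ker_eq_bot']
    intro z hz
    obtain ⟨l, rfl⟩ := (TensorProduct.rid B' L').symm.surjective z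
    have e := key l
    rw [hz, map_zero, eq_comm, Prod.ext_iff] at e
    rw [h l ((LinearEquiv.map_eq_zero_iff _).mp e.1) ((LinearEquiv.map_eq_zero_iff _).mp e.2), map_zero]
  · intro h l hB hA
    have e := key l
    rw [hB, hA, map_zero, map_zero, Prod.mk_zero_zero, LinearEquiv.map_eq_zero_iff] at e
    have h0 := h (e.trans (map_zero _).symm)
    exact (LinearEquiv.map_eq_zero_iff _).mp h0

end Groth.Agent.Glue24.Milnor
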