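import Groth.Agent.Glue24.Detect
import Mathlib.RingTheory.RingHom.Surjective
import Mathlib.RingTheory.RingHom.Finite
import Mathlib.RingTheory.RingHom.FiniteType
import Mathlib.RingTheory.RingHom.FinitePresentation
import Mathlib.RingTheory.RingHom.Flat
import Mathlib.RingTheory.RingHom.Etale
import Mathlib.RingTheory.RingHom.Unramified

/-!
# Glueing pairs detect properties of algebra maps
-/

universe u

open TensorProduct

namespace Groth.Agent.Glue24.Pair

variable {R R' : Type u} [CommRing R] [CommRing R'] [Algebra R R'] {f : R}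

theorem torsion_lift (h : EtGlue.IsGlueingPair R R' f) (n : ℕ) (x : R') (hx : f ^ n • x = 0) :
    ∃ r : R, algebraMap R R' r = x ∧ f ^ n * r = 0 := by
  obtain ⟨-, hinj, hex, -⟩ := h
  have h0 : algebraMap R' (Localization.Away (algebraMap R R' f)) x = 0 :=
    (IsLocalization.map_eq_zero_iff (Submonoid.powers (algebraMap R R' f)) _ x).mpr
      ⟨⟨_, n, rfl⟩, by simpa [Algebra.smul_def] using hx⟩
  obtain ⟨r, hr, hr'⟩ := hex x 0 (by rw [h0, map_zero])
  refine ⟨r, hr, hinj (Prod.ext ?_ ?_)⟩
  · show algebraMap R R' (f ^ n * r) = algebraMap R R' 0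
    rw [map_mul, hr, ← Algebra.smul_def, hx, map_zero]
  · show algebraMap R (Localization.Away f) (f ^ n * r) = algebraMap R _ 0
    rw [map_mul, hr', mul_zero, map_zero]

theorem glueable_torsion_inj {M : Type u} [AddCommGroup M] [Module R M]
    (hM : EtGlue.IsGlueable R R' f M) (n : ℕ) (m : M) (h1 : f ^ n • m = 0)
    (h2 : (1 : R') ⊗ₜ[R] m = 0) : m = 0 := by
  apply hM.1
  have : LocalizedModule.mkLinearMap (Submonoid.powers f) M m =
      LocalizedModule.mkLinearMap (Submonoid.powers f) M 0 :=
    (IsLocalizedModule.eq_iff_exists (Submonoid.powers f) _).mpr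
      ⟨⟨_, n, rfl⟩, h1.trans (smul_zero _).symm⟩
  exact Prod.ext (h2.trans (tmul_zero _ _).symm) this

attribute [local instance] Algebra.TensorProduct.rightAlgebra

variable {A B : Type u} [CommRing A] [Algebra R A] [CommRing B] [Algebra R B]

theorem dense (h : EtGlue.IsGlueingPair R R' f) :
    Dense A (R' ⊗[R] A) (algebraMap R A f) := by
  have hd := dense_of_quotPowBijective h.1
  constructor
  · intro n x
    obtain ⟨r, w, rfl⟩ := hd.exists_add_smul_tensor A n x
    refine ⟨r, w, ?_⟩
    rw [← map_pow, Algebra.smul_def, ← IsScalarTower.algebraMap_apply R A (R' ⊗[R] A)]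
    rfl
  · intro n r ⟨y, hy⟩
    rw [← map_pow, ← IsScalarTower.algebraMap_apply, ← Algebra.smul_def] at hy
    let N : Submodule R A := LinearMap.range (LinearMap.lsmul R A (f ^ n))
    have hQ : ∀ q : A ⧸ N, ∃ k : ℕ, f ^ k • q = 0 := fun q => by
      obtain ⟨q, rfl⟩ := N.mkQ_surjective q
      exact ⟨n, (N.mkQ.map_smul _ q).symm.trans ((Submodule.Quotient.mk_eq_zero _).mpr ⟨q, rfl⟩)⟩
    have h0 : N.mkQ r = 0 := by
      apply hd.mk_one_injective_of_torsion hQ
      rw [map_zero, TensorProduct.mk_apply, ← LinearMap.lTensor_tmul]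
      rw [show (1 : R') ⊗ₜ[R] r = f ^ n • y from hy, map_smul]
      obtain ⟨v, w, hv⟩ := hd.exists_add_smul_tensor _ 0 (N.mkQ.lTensor R' y)
      induction (N.mkQ.lTensor R' y) using TensorProduct.induction_on with
      | zero => rw [smul_zero]
      | tmul x q =>
        obtain ⟨q, rfl⟩ := N.mkQ_surjective q
        rw [smul_tmul', smul_tmul, ← map_smul]
        rw [show N.mkQ (f ^ n • q) = 0 from (Submodule.Quotient.mk_eq_zero _).mpr ⟨q, rfl⟩, tmul_zero]
      | add u v hu hv =>
        rw [smul_add]
        have hz : ∀ z : R' ⊗[R] (A ⧸ N), f ^ n • z = 0 := by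
          intro z
          induction z using TensorProduct.induction_on with
          | zero => rw [smul_zero]
          | tmul x q =>
            obtain ⟨q, rfl⟩ := N.mkQ_surjective q
            rw [smul_tmul', smul_tmul, ← map_smul]
            rw [show N.mkQ (f ^ n • q) = 0 from (Submodule.Quotient.mk_eq_zero _).mpr ⟨q, rfl⟩,
              tmul_zero]
          | add a b ha hb => rw [smul_add, ha, hb, add_zero]
        rw [hz u, hz _, add_zero]
    obtain ⟨s, hs⟩ := (Submodule.Quotient.mk_eq_zero _).mp h0
    exact ⟨s, by rw [← hs, LinearMap.lsmul_apply, Algebra.smul_def, map_pow]⟩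

variable (R R' f) in
theorem tensorMap_iff (φ : A →ₐ[R] B) {P : ∀ {S T : Type u} [CommRing S] [CommRing T], (S →+* T) → Prop}
    (hP : RingHom.RespectsIso @P) :
    letI := φ.toRingHom.toAlgebra
    P (Algebra.TensorProduct.map (AlgHom.id R R') φ).toRingHom ↔
      P (algebraMap (R' ⊗[R] A) ((R' ⊗[R] A) ⊗[A] B)) := by
  letI := φ.toRingHom.toAlgebra
  let ψ := Algebra.TensorProduct.map (AlgHom.id R R') φ
  letI : Algebra (R' ⊗[R] A) (R' ⊗[R] B) := ψ.toRingHom.toAlgebra
  letI : Algebra A (R' ⊗[R] B) :=
    ((algebraMap B (R' ⊗[R] B)).comp (algebraMap A B)).toAlgebra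
  haveI : IsScalarTower R A B := IsScalarTower.of_algebraMap_eq fun r => (φ.commutes r).symm
  haveI : IsScalarTower A B (R' ⊗[R] B) := IsScalarTower.of_algebraMap_eq' rfl
  haveI : IsScalarTower A (R' ⊗[R] A) (R' ⊗[R] B) := IsScalarTower.of_algebraMap_eq fun a => rfl
  haveI : IsScalarTower R' (R' ⊗[R] A) (R' ⊗[R] B) :=
    IsScalarTower.of_algebraMap_eq fun x => (by
      show x ⊗ₜ[R] (1 : B) = ψ (x ⊗ₜ[R] (1 : A))
      simp [ψ])
  haveI : IsScalarTower R (R' ⊗[R] A) (R' ⊗[R] B) :=
    IsScalarTower.of_algebraMap_eq fun x => (ψ.commutes x).symm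
  haveI : Algebra.IsPushout A B (R' ⊗[R] A) (R' ⊗[R] B) :=
    (Algebra.IsPushout.comp_iff (R := R) (S := A) (R' := R') (S' := R' ⊗[R] A) (T := B)
      (T' := R' ⊗[R] B)).mp inferInstance
  haveI : Algebra.IsPushout A (R' ⊗[R] A) B (R' ⊗[R] B) := Algebra.IsPushout.symm inferInstance
  let e := Algebra.IsPushout.equiv A (R' ⊗[R] A) B (R' ⊗[R] B)
  have he : ψ.toRingHom = e.toRingEquiv.toRingHom.comp (algebraMap _ _) :=
    RingHom.ext fun x => (e.commutes x).symm
  constructor
  · intro h
    have h' := hP.left _ e.symm.toRingEquiv h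
    have : e.symm.toRingEquiv.toRingHom.comp ψ.toRingHom =
        algebraMap (R' ⊗[R] A) ((R' ⊗[R] A) ⊗[A] B) := RingHom.ext fun x => e.symm.commutes x
    rwa [this] at h'
  · intro h
    show P ψ.toRingHom
    rw [he]
    exact hP.left _ e.toRingEquiv h

variable (f) in
theorem awayMap_iff (φ : A →ₐ[R] B) {P : ∀ {S T : Type u} [CommRing S] [CommRing T], (S →+* T) → Prop}
    (hP : RingHom.RespectsIso @P) :
    letI := φ.toRingHom.toAlgebra
    P (Localization.awayMap φ.toRingHom (algebraMap R A f)) ↔
      P (algebraMap (Localization.Away (algebraMap R A f))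
        (Localization.Away (algebraMap R A f) ⊗[A] B)) := by
  letI := φ.toRingHom.toAlgebra
  let a := algebraMap R A f
  let Bb := Localization.Away (φ.toRingHom a)
  let χ := Localization.awayMap φ.toRingHom a
  letI : Algebra (Localization.Away a) Bb := χ.toAlgebra
  haveI : IsScalarTower A (Localization.Away a) Bb :=
    IsScalarTower.of_algebraMap_eq fun x => by
      rw [IsScalarTower.algebraMap_apply A B Bb x]
      show algebraMap B Bb (φ.toRingHom x) = χ (algebraMap A _ x)
      simp [χ, Bb, Localization.awayMap, IsLocalization.Away.map, IsLocalization.map_eq]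
  haveI : IsLocalization (Algebra.algebraMapSubmonoid B (Submonoid.powers a)) Bb := by
    rw [Algebra.algebraMapSubmonoid, Submonoid.map_powers]
    exact inferInstanceAs (IsLocalization.Away (φ.toRingHom a) Bb)
  haveI : Algebra.IsPushout A B (Localization.Away a) Bb :=
    Algebra.isPushout_of_isLocalization (Submonoid.powers a) (Localization.Away a) B Bb
  haveI : Algebra.IsPushout A (Localization.Away a) B Bb := Algebra.IsPushout.symm inferInstance
  let e := Algebra.IsPushout.equiv A (Localization.Away a) B Bb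
  constructor
  · intro h
    have h' := hP.left _ e.symm.toRingEquiv h
    have : e.symm.toRingEquiv.toRingHom.comp χ =
        algebraMap (Localization.Away a) (Localization.Away a ⊗[A] B) :=
      RingHom.ext fun x => e.symm.commutes x
    rwa [this] at h'
  · intro h
    have : χ = e.toRingEquiv.toRingHom.comp (algebraMap _ _) :=
      RingHom.ext fun x => (e.commutes x).symm
    show P χ
    rw [this]
    exact hP.left _ e.toRingEquiv h

variable (R R' f) in
/-- A property stable under base change passes to both maps. -/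
theorem of_stable (φ : A →ₐ[R] B) {P : ∀ {S T : Type u} [CommRing S] [CommRing T], (S →+* T) → Prop}
    (hP : RingHom.IsStableUnderBaseChange @P) (hI : RingHom.RespectsIso @P) (h : P φ.toRingHom) :
    P (Localization.awayMap φ.toRingHom (algebraMap R A f)) ∧
      P (Algebra.TensorProduct.map (AlgHom.id R R') φ).toRingHom := by
  letI := φ.toRingHom.toAlgebra
  exact ⟨(awayMap_iff f φ hI).mpr (hP A B _ _ h), (tensorMap_iff R R' φ hI).mpr (hP A B _ _ h)⟩

theorem surjective_iff (h : EtGlue.IsGlueingPair R R' f) (φ : A →ₐ[R] B) :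
    Function.Surjective φ ↔ Function.Surjective (Localization.awayMap φ.toRingHom (algebraMap R A f))
      ∧ Function.Surjective (Algebra.TensorProduct.map (AlgHom.id R R') φ).toRingHom := by
  constructor
  · exact of_stable R R' f φ RingHom.surjective_isStableUnderBaseChange RingHom.surjective_respectsIso
  · rintro ⟨h1, h2⟩
    letI := φ.toRingHom.toAlgebra
    exact (dense h).surjective ((awayMap_iff f φ RingHom.surjective_respectsIso).mp h1)
      ((tensorMap_iff R R' φ RingHom.surjective_respectsIso).mp h2)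

theorem finite_iff (h : EtGlue.IsGlueingPair R R' f) (φ : A →ₐ[R] B) :
    φ.toRingHom.Finite ↔ (Localization.awayMap φ.toRingHom (algebraMap R A f)).Finite ∧
      (Algebra.TensorProduct.map (AlgHom.id R R') φ).toRingHom.Finite := by
  constructor
  · exact of_stable R R' f φ RingHom.finite_isStableUnderBaseChange RingHom.finite_respectsIso
  · rintro ⟨h1, h2⟩
    letI := φ.toRingHom.toAlgebra
    have := RingHom.finite_algebraMap.mp ((awayMap_iff f φ RingHom.finite_respectsIso).mp h1)
    have := RingHom.finite_algebraMap.mp ((tensorMap_iff R R' φ RingHom.finite_respectsIso).mp h2)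
    exact RingHom.finite_algebraMap.mpr ((dense h).finite (M := B))

theorem finiteType_iff (h : EtGlue.IsGlueingPair R R' f) (φ : A →ₐ[R] B) :
    φ.toRingHom.FiniteType ↔ (Localization.awayMap φ.toRingHom (algebraMap R A f)).FiniteType ∧
      (Algebra.TensorProduct.map (AlgHom.id R R') φ).toRingHom.FiniteType := by
  constructor
  · exact of_stable R R' f φ RingHom.finiteType_isStableUnderBaseChange RingHom.finiteType_respectsIso
  · rintro ⟨h1, h2⟩
    letI := φ.toRingHom.toAlgebra
    have := RingHom.finiteType_algebraMap.mp ((awayMap_iff f φ RingHom.finiteType_respectsIso).mp h1)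
    have := RingHom.finiteType_algebraMap.mp
      ((tensorMap_iff R R' φ RingHom.finiteType_respectsIso).mp h2)
    exact RingHom.finiteType_algebraMap.mpr ((dense h).finiteType (B := B))

theorem flat_iff (h : EtGlue.IsGlueingPair R R' f) (hA : EtGlue.IsGlueable R R' f A)
    (hB : EtGlue.IsGlueable R R' f B) (φ : A →ₐ[R] B) :
    φ.toRingHom.Flat ↔ (Localization.awayMap φ.toRingHom (algebraMap R A f)).Flat ∧
      (Algebra.TensorProduct.map (AlgHom.id R R') φ).toRingHom.Flat := by
  constructor
  · exact of_stable R R' f φ RingHom.Flat.isStableUnderBaseChange RingHom.Flat.respectsIso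
  · rintro ⟨h1, h2⟩
    letI := φ.toRingHom.toAlgebra
    haveI : IsScalarTower R A B := IsScalarTower.of_algebraMap_eq fun r => (φ.commutes r).symm
    have := RingHom.flat_algebraMap_iff.mp ((awayMap_iff f φ RingHom.Flat.respectsIso).mp h1)
    have := RingHom.flat_algebraMap_iff.mp ((tensorMap_iff R R' φ RingHom.Flat.respectsIso).mp h2)
    haveI : Module.Flat A (Localization.Away (algebraMap R A f)) :=
      IsLocalization.flat _ (Submonoid.powers (algebraMap R A f))
    haveI : Module.Flat A (Localization.Away (algebraMap R A f) ⊗[A] B) :=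
      Module.Flat.trans A (Localization.Away (algebraMap R A f)) _
    have hpow : ∀ (n : ℕ) {M : Type u} [AddCommGroup M] [Module R M] [Module A M]
        [IsScalarTower R A M] (m : M), algebraMap R A f ^ n • m = f ^ n • m := by
      intros
      rw [← map_pow, algebraMap_smul]
    refine RingHom.flat_algebraMap_iff.mpr ((dense h).flat ?_ ?_ ?_)
    · intro n x hx
      rw [hpow] at hx
      obtain ⟨r, hr, hr'⟩ := (dense_of_quotPowBijective h.1).exists_torsion_lift (torsion_lift h) n x hx
      exact ⟨r, hr', by rw [← smul_eq_mul, hpow]; exact hr⟩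
    · intro n r hr hr'
      rw [← smul_eq_mul, hpow] at hr
      exact glueable_torsion_inj hA n r hr hr'
    · intro n m hm hm'
      rw [hpow] at hm
      refine glueable_torsion_inj hB n m hm ?_
      letI : Algebra A (R' ⊗[R] B) :=
        ((algebraMap B (R' ⊗[R] B)).comp (algebraMap A B)).toAlgebra
      let χ : (R' ⊗[R] A) ⊗[A] B →ₐ[A] R' ⊗[R] B :=
        Algebra.TensorProduct.lift
          ({ toRingHom := (Algebra.TensorProduct.map (AlgHom.id R R') φ).toRingHom
             commutes' := fun a => rfl } : R' ⊗[R] A →ₐ[A] R' ⊗[R] B)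
          ({ toRingHom := (Algebra.TensorProduct.includeRight : B →ₐ[R] R' ⊗[R] B).toRingHom
             commutes' := fun a => rfl } : B →ₐ[A] R' ⊗[R] B) (fun _ _ => Commute.all _ _)
      have e := congrArg χ hm'
      rw [map_zero, Algebra.TensorProduct.lift_tmul, map_one, one_mul] at e
      exact e

theorem flat_finitePresentation_iff (h : EtGlue.IsGlueingPair R R' f)
    (hA : EtGlue.IsGlueable R R' f A) (hB : EtGlue.IsGlueable R R' f B) (φ : A →ₐ[R] B) :
    (φ.toRingHom.Flat ∧ φ.toRingHom.FinitePresentation) ↔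
      ((Localization.awayMap φ.toRingHom (algebraMap R A f)).Flat ∧
        (Localization.awayMap φ.toRingHom (algebraMap R A f)).FinitePresentation) ∧
        ((Algebra.TensorProduct.map (AlgHom.id R R') φ).toRingHom.Flat ∧
          (Algebra.TensorProduct.map (AlgHom.id R R') φ).toRingHom.FinitePresentation) := by
  have hI := RingHom.finitePresentation_respectsIso
  constructor
  · rintro ⟨h1, h2⟩
    obtain ⟨a, b⟩ := (flat_iff h hA hB φ).mp h1
    obtain ⟨c, d⟩ := of_stable R R' f φ RingHom.finitePresentation_isStableUnderBaseChange hI h2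
    exact ⟨⟨a, c⟩, b, d⟩
  · rintro ⟨⟨a, c⟩, b, d⟩
    have hflat := (flat_iff h hA hB φ).mpr ⟨a, b⟩
    letI := φ.toRingHom.toAlgebra
    have : Module.Flat A B := RingHom.flat_algebraMap_iff.mp hflat
    have := RingHom.finitePresentation_algebraMap.mp ((awayMap_iff f φ hI).mp c)
    have := RingHom.finitePresentation_algebraMap.mp ((tensorMap_iff R R' φ hI).mp d)
    exact ⟨hflat, RingHom.finitePresentation_algebraMap.mpr ((dense h).finitePresentation (B := B))⟩

theorem etale_iff (h : EtGlue.IsGlueingPair R R' f) (hA : EtGlue.IsGlueable R R' f A)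
    (hB : EtGlue.IsGlueable R R' f B) (φ : A →ₐ[R] B) :
    φ.toRingHom.Etale ↔ (Localization.awayMap φ.toRingHom (algebraMap R A f)).Etale ∧
      (Algebra.TensorProduct.map (AlgHom.id R R') φ).toRingHom.Etale := by
  constructor
  · exact of_stable R R' f φ RingHom.Etale.isStableUnderBaseChange RingHom.Etale.respectsIso
  · rintro ⟨h1, h2⟩
    obtain ⟨f1, u1, p1⟩ := RingHom.Etale.iff_flat_and_formallyUnramified.mp h1
    obtain ⟨f2, u2, p2⟩ := RingHom.Etale.iff_flat_and_formallyUnramified.mp h2
    obtain ⟨hflat, hfp⟩ := (flat_finitePresentation_iff h hA hB φ).mpr ⟨⟨f1, p1⟩, f2, p2⟩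
    refine RingHom.Etale.iff_flat_and_formallyUnramified.mpr ⟨hflat, ?_, hfp⟩
    letI := φ.toRingHom.toAlgebra
    have hI := RingHom.FormallyUnramified.respectsIso
    have := RingHom.formallyUnramified_algebraMap.mp ((awayMap_iff f φ hI).mp u1)
    have := RingHom.formallyUnramified_algebraMap.mp ((tensorMap_iff R R' φ hI).mp u2)
    have : Algebra.FinitePresentation A B := RingHom.finitePresentation_algebraMap.mp hfp
    exact RingHom.formallyUnramified_algebraMap.mpr ((dense h).formallyUnramified (B := B))

end Groth.Agent.Glue24.Pair
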